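import Cfsg.Agent.H13.RealSizes.Module
import Cfsg.Agent.H13.RealSizes.End
import Cfsg.Agent.S0144
import Cfsg.Agent.S0205
import Cfsg.Agent.S0007
import Cfsg.Agent.H28.ZStar
import Cfsg.Agent.H28.BaerSuzuki
import Cfsg.Agent.H45.Transitive.Tools

/-!
# Real class sizes split by a set of primes: the module of order 64

Every involution fixes exactly eight vectors, the fixed vectors of each Sylow two-subgroup are
those of each of its involutions, so every involution is isolated and the Z* theorem applies.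
-/

set_option autoImplicit false

namespace Cfsg.Agent.H13.RealSizes

universe u v

namespace Six

open Module Cfsg.Agent.H45.Trans

section General

variable {W : Type v} [AddCommGroup W] [Module (ZMod 2) W] [Finite W]

theorem card_eq_pow : Nat.card W = 2 ^ finrank (ZMod 2) W :=
  card_V (p := 2)

omit [Module (ZMod 2) W] in
theorem card_ne_zero_sub_one : Nat.card {w : W // w ≠ 0} = Nat.card W - 1 := by
  classical
  have := Fintype.ofFinite W
  rw [Nat.card_eq_fintype_card, Nat.card_eq_fintype_card, Fintype.card_subtype_compl,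
    Fintype.card_subtype_eq]

/-- An involution fixes at least half of the dimensions. -/
theorem le_two_mul_fix (a : W ≃ₗ[ZMod 2] W) (ha : a * a = 1) :
    finrank (ZMod 2) W ≤
      2 * finrank (ZMod 2) (LinearMap.eqLocus a.toLinearMap LinearMap.id : Submodule (ZMod 2) W) := by
  let N : W →ₗ[ZMod 2] W := a.toLinearMap + LinearMap.id
  have haa : ∀ x, a (a x) = x := fun x => by rw [← LinearEquiv.mul_apply, ha]; rfl
  have hker : LinearMap.ker N = LinearMap.eqLocus a.toLinearMap LinearMap.id := by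
    ext x
    show a x + x = 0 ↔ a x = x
    rw [add_eq_zero_iff_eq_neg, ZModModule.neg_eq_self]
  have hle : LinearMap.range N ≤ LinearMap.ker N := by
    rintro _ ⟨x, rfl⟩
    show a (a x + x) + (a x + x) = 0
    rw [map_add, haa, add_comm x (a x)]
    exact ZModModule.add_self _
  have h1 := LinearMap.finrank_range_add_finrank_ker N
  have h2 := Submodule.finrank_mono hle
  rw [← hker]
  omega

/-- An element of order seven is transitive on the nonzero vectors of a space of dimension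
three. -/
theorem transitive_seven (hW : finrank (ZMod 2) W = 3) {a : W ≃ₗ[ZMod 2] W} (ha : orderOf a = 7)
    {x x' : W} (hx : x ≠ 0) (hx' : x' ≠ 0) : ∃ c ∈ Subgroup.zpowers a, c x = x' := by
  have : Fact (Nat.Prime 7) := ⟨by norm_num⟩
  have : Finite (W ≃ₗ[ZMod 2] W) := Finite.of_injective _ DFunLike.coe_injective
  set ι := MonoidHom.id (W ≃ₗ[ZMod 2] W)
  have h := pow_modEq_fixV ι (r := 7) ha
  have hle := Submodule.finrank_le (fixV ι a)
  rw [hW] at h hle
  have hd : finrank (ZMod 2) (fixV ι a) = 0 := by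
    have : finrank (ZMod 2) (fixV ι a) ≠ 3 := fun h3 => by
      have htop : fixV ι a = ⊤ := Submodule.eq_top_of_finrank_eq (h3.trans hW.symm)
      have : a = 1 := LinearEquiv.ext fun w =>
        (mem_fixV (ρ := ι)).1 (htop ▸ Submodule.mem_top)
      rw [this, orderOf_one] at ha
      omega
    unfold Nat.ModEq at h
    interval_cases finrank (ZMod 2) (fixV ι a) <;> simp_all
  have hbot : fixV ι a = ⊥ := Submodule.finrank_eq_zero.1 hd
  have hsr : stab ι x ⊓ Subgroup.zpowers a = ⊥ := by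
    have : Fact (Nat.card (Subgroup.zpowers a)).Prime := ⟨by
      rw [Nat.card_zpowers, ha]; norm_num⟩
    rcases ((stab ι x).subgroupOf (Subgroup.zpowers a)).eq_bot_or_eq_top_of_prime_card with h | h
    · rwa [Subgroup.subgroupOf_eq_bot, disjoint_iff] at h
    · rw [Subgroup.subgroupOf_eq_top] at h
      have : x ∈ fixV ι a := mem_fixV.2 (h (Subgroup.mem_zpowers a))
      rw [hbot, Submodule.mem_bot] at this
      exact absurd this hx
  let f : Subgroup.zpowers a → {w : W // w ≠ 0} :=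
    fun c => ⟨c.1 x, (LinearEquiv.map_ne_zero_iff _).2 hx⟩
  have hf : Function.Injective f := by
    intro c d hcd
    have he : c.1 x = d.1 x := congrArg Subtype.val hcd
    have hm : d.1⁻¹ * c.1 ∈ stab ι x ⊓ Subgroup.zpowers a := by
      refine Subgroup.mem_inf.2 ⟨?_, Subgroup.mul_mem _ (Subgroup.inv_mem _ d.2) c.2⟩
      show (d.1⁻¹ * c.1) x = x
      rw [LinearEquiv.mul_apply, he, ← LinearEquiv.mul_apply, inv_mul_cancel]
      rfl
    rw [hsr, Subgroup.mem_bot, inv_mul_eq_one] at hm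
    exact Subtype.ext hm.symm
  have hb := hf.bijective_of_nat_card_le (by
    rw [card_ne_zero_sub_one, card_eq_pow, hW, Nat.card_zpowers, ha]; norm_num)
  obtain ⟨c, hc⟩ := hb.2 ⟨x', hx'⟩
  exact ⟨c.1, c.2, congrArg Subtype.val hc⟩

end General

variable {G : Type u} [Group G] {V : Type v} [AddCommGroup V] [Module (ZMod 2) V]
  {π : Set ℕ} {ρ : G →* (V ≃ₗ[ZMod 2] V)}

theorem mul_apply' (a b : G) (x : V) : ρ (a * b) x = ρ a (ρ b x) := by
  rw [map_mul, LinearEquiv.mul_apply]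

theorem inv_apply' (g : G) (x : V) : ρ g⁻¹ (ρ g x) = x := by
  rw [← mul_apply', inv_mul_cancel, map_one]; rfl

theorem fixV_conj (g h : G) : fixV ρ (g * h * g⁻¹) = (fixV ρ h).map (ρ g).toLinearMap := by
  ext x
  rw [Submodule.mem_map, mem_fixV]
  constructor
  · intro hx
    refine ⟨ρ g⁻¹ x, ?_, apply_inv_apply ρ g x⟩
    rw [mem_fixV]
    apply (ρ g).injective
    rw [apply_inv_apply ρ g x, ← mul_apply', ← mul_apply']
    exact hx
  · rintro ⟨w, hw, rfl⟩
    show ρ (g * h * g⁻¹) (ρ g w) = ρ g w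
    rw [← mul_apply', inv_mul_cancel_right, mul_apply', mem_fixV.1 hw]

theorem fix_le (H : Hyp π ρ) {g : G} (hg : g ≠ 1) : fixV ρ g ≠ ⊤ := fun h => hg (H.inj (by
  rw [map_one]
  exact LinearEquiv.ext fun w => mem_fixV.1 (h ▸ Submodule.mem_top)))

theorem semiconj_odd_pow {g y : G} (h : g * y * g⁻¹ = y⁻¹) {m : ℕ} (hm : Odd m) :
    g ^ m * y * (g ^ m)⁻¹ = y⁻¹ := by
  obtain ⟨j, rfl⟩ := hm
  have h1 : SemiconjBy g y y⁻¹ := mul_inv_eq_iff_eq_mul.1 h
  have h2 : SemiconjBy g y⁻¹ y := by simpa using h1.inv_right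
  have h3 : SemiconjBy (g ^ (2 * j + 1)) y y⁻¹ := by
    induction j with
    | zero => simpa using h1
    | succ j ih =>
      rw [show 2 * (j + 1) + 1 = (2 * j + 1) + 1 + 1 from by ring, pow_succ', pow_succ']
      exact h1.mul_left (h2.mul_left ih)
  exact mul_inv_eq_iff_eq_mul.2 h3

theorem exists_two_part [Finite G] (g : G) :
    ∃ m, Odd m ∧ ∃ k, (g ^ m) ^ 2 ^ k = 1 := by
  obtain ⟨k, m, hm, he⟩ := Nat.exists_eq_two_pow_mul_odd (orderOf_pos g).ne'
  exact ⟨m, hm, k, by rw [← pow_mul, mul_comm, ← he, pow_orderOf_eq_one]⟩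

theorem exists_central_prime [Finite G] {p : ℕ} [Fact p.Prime] {P : Subgroup G}
    (hP : IsPGroup p P) (hne : P ≠ ⊥) :
    ∃ h ∈ P, orderOf h = p ∧ ∀ x ∈ P, x * h = h * x := by
  have := (Subgroup.nontrivial_iff_ne_bot P).2 hne
  have := hP.center_nontrivial
  obtain ⟨n, hn0, hn⟩ := (hP.to_subgroup (Subgroup.center P)).nontrivial_iff_card.mp inferInstance
  obtain ⟨z, hz⟩ := exists_prime_orderOf_dvd_card' (G := Subgroup.center P) p
    (hn ▸ dvd_pow_self p hn0.ne')
  refine ⟨z.1.1, z.1.2, ?_, fun x hx => ?_⟩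
  · rw [Subgroup.orderOf_coe, Subgroup.orderOf_coe, hz]
  · exact congrArg Subtype.val (Subgroup.mem_center_iff.1 z.2 ⟨x, hx⟩)

/-- The action of an invariant subgroup on a subspace. -/
def restr (ρ : G →* (V ≃ₗ[ZMod 2] V)) {X : Submodule (ZMod 2) V} {Y : Subgroup G}
    (hY : ∀ g ∈ Y, ∀ x ∈ X, ρ g x ∈ X) : Y →* (X ≃ₗ[ZMod 2] X) where
  toFun g :=
    { toFun := fun x => ⟨ρ g.1 x.1, hY _ g.2 _ x.2⟩
      map_add' := fun x y => Subtype.ext (map_add _ _ _)
      map_smul' := fun c x => Subtype.ext (map_smul _ _ _)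
      invFun := fun x => ⟨ρ g.1⁻¹ x.1, hY _ (Y.inv_mem g.2) _ x.2⟩
      left_inv := fun x => Subtype.ext (inv_apply' _ _)
      right_inv := fun x => Subtype.ext (apply_inv_apply _ _ _) }
  map_one' := LinearEquiv.ext fun x => Subtype.ext (by show ρ 1 x.1 = x.1; simp)
  map_mul' := fun a b => LinearEquiv.ext fun x => Subtype.ext (mul_apply' a.1 b.1 x.1)

theorem restr_apply {X : Submodule (ZMod 2) V} {Y : Subgroup G}
    (hY : ∀ g ∈ Y, ∀ x ∈ X, ρ g x ∈ X) (g : Y) (x : X) : ((restr ρ hY g) x).1 = ρ g.1 x.1 := rfl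

theorem cent_preserves (u : G) : ∀ g ∈ cent u, ∀ x ∈ fixV ρ u, ρ g x ∈ fixV ρ u :=
  fun _ hg _ hx => map_fixV_mem (Subgroup.mem_centralizer_singleton_iff.1 hg).symm hx

/-- The common fixed vectors of a subgroup. -/
def fixS (ρ : G →* (V ≃ₗ[ZMod 2] V)) (P : Subgroup G) : Submodule (ZMod 2) V :=
  ⨅ g : P, fixV ρ g.1

theorem mem_fixS {P : Subgroup G} {x : V} : x ∈ fixS ρ P ↔ P ≤ stab ρ x := by
  simp only [fixS, Submodule.mem_iInf, mem_fixV, Subtype.forall]
  rfl

theorem trans_of_seven [Finite V] {X : Submodule (ZMod 2) V} (hX : finrank (ZMod 2) X = 3)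
    {Y : Subgroup G} (hY : ∀ g ∈ Y, ∀ x ∈ X, ρ g x ∈ X) {a : (restr ρ hY).range}
    (ha : orderOf a = 7) :
    ∀ x ∈ X, x ≠ 0 → ∀ x' ∈ X, x' ≠ 0 → ∃ g ∈ Y, ρ g x = x' := by
  intro x hx hx0 x' hx' hx0'
  obtain ⟨c, hc, hcx⟩ := transitive_seven hX (a := a.1) (by rw [Subgroup.orderOf_coe, ha])
    (x := ⟨x, hx⟩) (x' := ⟨x', hx'⟩) (fun h => hx0 (congrArg Subtype.val h))
    (fun h => hx0' (congrArg Subtype.val h))
  obtain ⟨g, rfl⟩ := (Subgroup.zpowers_le.2 a.2) hc
  exact ⟨g.1, g.2, congrArg Subtype.val hcx⟩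

variable [Finite G] [Finite V]

omit [Finite G] [Finite V] in
theorem isConj_inv {g y : G} (h : g * y * g⁻¹ = y⁻¹) : IsConj y y⁻¹ :=
  isConj_iff.2 ⟨g, h⟩

omit [Finite V] in
theorem exists_mem_cent (H : Hyp π ρ) {y : G} (hy : OddPrimeOrder y) (hr : IsConj y y⁻¹) {v : V}
    (hv : v ≠ 0) (g : G) : ∃ c ∈ cent y, ρ c v = ρ g v := by
  obtain ⟨a, ha, b, hb, rfl⟩ := (Cfsg.Agent.S0007.result (cent y) (stab ρ v)
    (Nat.coprime_of_dvd fun q hq h1 h2 => H.real y hy hr q hq h1 (H.orb v hv q hq h2))).2 g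
  exact ⟨a, ha, by rw [mul_apply', mem_stab.1 hb]⟩

omit [Finite V] in
theorem irreducible_cent (H : Hyp π ρ) {y : G} (hy : OddPrimeOrder y) (hr : IsConj y y⁻¹)
    (W : Submodule (ZMod 2) V) (hW : ∀ c ∈ cent y, ∀ w ∈ W, ρ c w ∈ W) : W = ⊥ ∨ W = ⊤ := by
  rcases eq_or_ne W ⊥ with h | h
  · exact Or.inl h
  obtain ⟨w, hw, hw0⟩ := Submodule.exists_mem_ne_zero_of_ne_bot h
  let U : Submodule (ZMod 2) V := Submodule.span (ZMod 2) (Set.range fun g : G => ρ g w)
  have hUW : U ≤ W := Submodule.span_le.2 (by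
    rintro _ ⟨g, rfl⟩
    obtain ⟨c, hc, hcg⟩ := exists_mem_cent H hy hr hw0 g
    show ρ g w ∈ W
    rw [← hcg]
    exact hW c hc w hw)
  have hU : ∀ g : G, ∀ x ∈ U, ρ g x ∈ U := fun g => by
    show U ≤ U.comap (ρ g).toLinearMap
    refine Submodule.span_le.2 ?_
    rintro _ ⟨k, rfl⟩
    exact Submodule.subset_span ⟨g * k, mul_apply' g k w⟩
  rcases H.irr U hU with h' | h'
  · have hwU : w ∈ U := Submodule.subset_span ⟨1, by show ρ 1 w = w; simp⟩
    rw [h', Submodule.mem_bot] at hwU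
    exact absurd hwU hw0
  · exact Or.inr (top_le_iff.1 (h' ▸ hUW))

theorem isSolvable_stab (H : Hyp π ρ) {v : V} (hv : v ≠ 0) : Group.IsSolvable (stab ρ v) := by
  obtain ⟨P⟩ : Nonempty (Sylow 2 (stab ρ v)) := inferInstance
  obtain ⟨N, hNle, hN, hmem⟩ := ModuleAux.twoClosed_stab H hv
  set N' := N.subgroupOf (stab ρ v)
  have hN' : IsPGroup 2 N' := hN.comap_of_injective _ (stab ρ v).subtype_injective
  have hPN : (P : Subgroup (stab ρ v)) ≤ N' := fun x hx => by
    obtain ⟨k, hk⟩ := P.2 ⟨x, hx⟩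
    have hk' : (x : G) ^ 2 ^ k = 1 :=
      congrArg (fun z : stab ρ v => (z : G)) (congrArg Subtype.val hk)
    exact hmem _ x.2 k hk'
  have hNeq : N' = P := P.3 hN' hPN
  have hn : N'.Normal := ⟨fun x hx g => by
    obtain ⟨k, hk⟩ := hN' ⟨x, hx⟩
    have hk' : x ^ 2 ^ k = 1 := congrArg Subtype.val hk
    have hg : (g * x * g⁻¹) ^ 2 ^ k = 1 := by rw [conj_pow, hk', mul_one, mul_inv_cancel]
    exact hmem _ (g * x * g⁻¹).2 k (congrArg Subtype.val hg)⟩
  have : Group.IsSolvable N' := by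
    have := hN'.isNilpotent
    infer_instance
  have : Group.IsSolvable (stab ρ v ⧸ N') := Cfsg.Agent.S0205.result (by
    rw [← Subgroup.index_eq_card, hNeq]
    exact Nat.odd_iff.2 (Nat.two_dvd_ne_zero.1 P.not_dvd_index))
  exact Group.isSolvable_of_ker_le_range N'.subtype (QuotientGroup.mk' N') (by simp)

omit [Finite G] [Finite V] in
theorem exists_mul_cent (O : Subgroup G) [O.Normal] (hO : Odd (Nat.card O)) {u : G}
    (hu : orderOf u = 2) (h : ∀ g : G, u * g * u⁻¹ * g⁻¹ ∈ O) (g : G) :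
    ∃ a ∈ O, ∃ c ∈ cent u, g = a * c := by
  have hu2 : u * u = 1 := by rw [← pow_two, ← hu, pow_orderOf_eq_one]
  have hui : u⁻¹ = u := inv_eq_of_mul_eq_one_right hu2
  set o := g * u * g⁻¹ * u with hod
  have ho : o ∈ O := by
    have h' := (inferInstance : O.Normal).conj_mem _ (h g) u
    have he : u * (u * g * u⁻¹ * g⁻¹) * u⁻¹ = u * u * g * u⁻¹ * g⁻¹ * u⁻¹ := by group
    rw [he, hu2, hui, one_mul] at h'
    exact h'
  have hinv : u * o * u⁻¹ = o⁻¹ := by
    apply eq_inv_of_mul_eq_one_left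
    calc u * o * u⁻¹ * o = u * g * u * g⁻¹ * (g * u * g⁻¹ * u) := by rw [hod]; group
      _ = u * g * (u * u) * g⁻¹ * u := by group
      _ = 1 := by rw [hu2, mul_one, mul_inv_cancel_right, hu2]
  obtain ⟨j, hj⟩ := hO
  set s := o ^ (j + 1) with hsd
  have hss : s * s = o := by
    rw [hsd, ← pow_add, show j + 1 + (j + 1) = Nat.card O + 1 by omega, pow_succ,
      show o ^ Nat.card O = 1 from
        congrArg Subtype.val (pow_card_eq_one' (x := (⟨o, ho⟩ : O))), one_mul]
  have hsu : u * s * u⁻¹ = s⁻¹ := by rw [hsd, ← conj_pow, hinv, inv_pow]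
  refine ⟨s, pow_mem ho _, s⁻¹ * g, Subgroup.mem_centralizer_singleton_iff.2 ?_, by group⟩
  have h1 : s * u * s⁻¹ = g * u * g⁻¹ := by
    calc s * u * s⁻¹ = s * (u * s * u⁻¹)⁻¹ * u := by group
      _ = s * s * u := by rw [hsu, inv_inv]
      _ = g * u * g⁻¹ := by rw [hss, hod, mul_assoc _ u u, hu2, mul_one]
  calc s⁻¹ * g * u = s⁻¹ * (g * u * g⁻¹) * g := by group
    _ = u * (s⁻¹ * g) := by rw [← h1]; group

theorem finrank_six (hV : Nat.card V = 64) : finrank (ZMod 2) V = 6 := by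
  have h := card_eq_pow (W := V)
  rw [hV] at h
  exact (Nat.pow_right_injective le_rfl (show 2 ^ 6 = 2 ^ finrank (ZMod 2) V by omega)).symm

omit [AddCommGroup V] [Module (ZMod 2) V] in
theorem nontrivial_six (hV : Nat.card V = 64) : Nontrivial V :=
  Finite.one_lt_card_iff_nontrivial.1 (by omega)

theorem not_cubic (H : Hyp π ρ) [Nontrivial V] {y : G} (hy : OddPrimeOrder y)
    (hr : IsConj y y⁻¹) : orderOf y ≠ 7 := by
  intro h7
  have hsr := ModuleAux.semireg H hy hr
  set T : V →ₗ[ZMod 2] V := (ρ y).toLinearMap with hT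
  obtain ⟨g, hg⟩ := isConj_iff.1 hr
  have hTd : ∀ x, T x = ρ y x := fun _ => rfl
  let A : V →ₗ[ZMod 2] V := T ∘ₗ T ∘ₗ T + T + LinearMap.id
  let B : V →ₗ[ZMod 2] V := T ∘ₗ T ∘ₗ T + T ∘ₗ T + LinearMap.id
  have hA : ∀ w, A w = T (T (T w)) + T w + w := fun _ => rfl
  have hB : ∀ w, B w = T (T (T w)) + T (T w) + w := fun _ => rfl
  have hAB : ∀ w, A (B w) = 0 := by
    intro w
    have h7' : T (T (T (T (T (T (T w)))))) = w := by
      simp only [hTd, ← mul_apply']
      have : y * (y * (y * (y * (y * (y * y))))) = 1 := by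
        rw [show y * (y * (y * (y * (y * (y * y))))) = y ^ 7 by simp [pow_succ, mul_assoc], ← h7, pow_orderOf_eq_one]
      simp only [← mul_assoc] at this ⊢
      rw [this, map_one]; rfl
    have hs : w + T w + T (T w) + T (T (T w)) + T (T (T (T w))) + T (T (T (T (T w)))) +
        T (T (T (T (T (T w))))) = 0 := by
      apply hsr
      simp only [← hTd, map_add, h7']
      abel
    rw [hA, hB]
    simp only [map_add]
    rw [show T (T (T (T (T (T w))))) + T (T (T (T (T w)))) + T (T (T w)) +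
          (T (T (T (T w))) + T (T (T w)) + T w) + (T (T (T w)) + T (T w) + w) =
        (w + T w + T (T w) + T (T (T w)) + T (T (T (T w))) + T (T (T (T (T w)))) +
          T (T (T (T (T (T w)))))) + (T (T (T w)) + T (T (T w))) by abel,
      hs, ZModModule.add_self, add_zero]
  have hcomm : ∀ c ∈ cent y, ∀ x, ρ c (T x) = T (ρ c x) := fun c hc x => by
    simp only [hTd, ← mul_apply', Subgroup.mem_centralizer_singleton_iff.1 hc]
  have hU : ∀ x, ρ g (T x) = ρ y⁻¹ (ρ g x) := fun x => by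
    rw [hTd, ← mul_apply', ← mul_apply', ← hg, inv_mul_cancel_right]
  set U := ρ y⁻¹ with hUd
  have hUT : ∀ x, U (T x) = x := fun x => inv_apply' y x
  have key : (∀ x, T (T x) + T x = 0) → False := by
    intro hk
    obtain ⟨x, hx⟩ := exists_ne (0 : V)
    apply hx
    apply hsr
    have h := hk x
    rw [add_eq_zero_iff_eq_neg, ZModModule.neg_eq_self] at h
    exact (ρ y).injective h
  rcases irreducible_cent H hy hr (LinearMap.ker A) (fun c hc w hw => by
    rw [LinearMap.mem_ker, hA] at hw ⊢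
    rw [← hcomm c hc, ← hcomm c hc, ← hcomm c hc, ← map_add, ← map_add, hw, map_zero]) with h | h
  · -- every vector is a root of the second cubic
    have hall : ∀ w, T (T (T w)) + T (T w) + w = 0 := fun w => by
      rw [← hB]
      exact LinearMap.ker_eq_bot.1 h (by rw [hAB, map_zero])
    have hallU : ∀ w, U (U (U w)) + U (U w) + w = 0 := fun w => by
      have := congrArg (ρ g) (hall (ρ g⁻¹ w))
      simpa only [map_add, hU, apply_inv_apply, map_zero] using this
    refine key fun x => ?_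
    have h2 := hallU (T (T (T x)))
    simp only [hUT] at h2
    rw [show T (T x) + T x = (T (T (T x)) + T (T x) + x) + (x + T x + T (T (T x))) -
      ((T (T (T x)) + T (T (T x))) + (x + x)) by abel, hall, h2]
    simp [ZModModule.add_self]
  · have hall : ∀ w, T (T (T w)) + T w + w = 0 := fun w => by
      rw [← hA]
      exact LinearMap.mem_ker.1 (h ▸ Submodule.mem_top)
    have hallU : ∀ w, U (U (U w)) + U w + w = 0 := fun w => by
      have := congrArg (ρ g) (hall (ρ g⁻¹ w))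
      simpa only [map_add, hU, apply_inv_apply, map_zero] using this
    refine key fun x => ?_
    have h2 := hallU (T (T (T x)))
    simp only [hUT] at h2
    rw [show T (T x) + T x = (T (T (T x)) + T x + x) + (x + T (T x) + T (T (T x))) -
      ((T (T (T x)) + T (T (T x))) + (x + x)) by abel, hall, h2]
    simp [ZModModule.add_self]

theorem order_three (H : Hyp π ρ) (hV : Nat.card V = 64) {y : G} (hy : OddPrimeOrder y)
    (hr : IsConj y y⁻¹) : orderOf y = 3 := by
  have := nontrivial_six hV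
  have : Fact (orderOf y).Prime := ⟨hy.1⟩
  have h := pow_modEq_fixV ρ (g := y) rfl
  have hbot : fixV ρ y = ⊥ := (Submodule.eq_bot_iff _).2 fun v hv => ModuleAux.semireg H hy hr v hv
  rw [finrank_six hV, hbot, finrank_bot] at h
  have hd : orderOf y ∣ 3 * 3 * 7 := by
    have := (Nat.modEq_iff_dvd' (by norm_num)).1 h.symm
    simpa using this
  have h3 : (3 : ℕ).Prime := by norm_num
  rcases hy.1.dvd_mul.1 hd with hd | hd
  · rcases hy.1.dvd_mul.1 hd with hd | hd <;>
      exact (Nat.prime_dvd_prime_iff_eq hy.1 h3).1 hd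
  · exact absurd ((Nat.prime_dvd_prime_iff_eq hy.1 (by norm_num)).1 hd) (not_cubic H hy hr)

theorem finrank_fix_inv (H : Hyp π ρ) (hV : Nat.card V = 64) {u : G} (hu : orderOf u = 2) :
    finrank (ZMod 2) (fixV ρ u) = 3 := by
  have h6 := finrank_six hV
  have hu2 : u * u = 1 := by rw [← pow_two, ← hu, pow_orderOf_eq_one]
  have hge := le_two_mul_fix (ρ u) (by rw [← map_mul, hu2, map_one])
  have := nontrivial_six hV
  obtain ⟨y, hy, hinv⟩ := ModuleAux.exists_inverted H hu
  have hr := isConj_inv hinv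
  have h3 : y ^ 3 = 1 := by rw [← order_three H hV hy hr, pow_orderOf_eq_one]
  have hconj : (y * y)⁻¹ * u * (y * y) = u * y := by
    have hs : u * y = y⁻¹ * u := mul_inv_eq_iff_eq_mul.1 hinv
    have e1 : u * (y * y) = y⁻¹ * y⁻¹ * u := by
      rw [← mul_assoc, hs, mul_assoc, hs, mul_assoc]
    rw [mul_assoc, e1, hs, show (y * y)⁻¹ * (y⁻¹ * y⁻¹ * u) = (y ^ 3)⁻¹ * y⁻¹ * u by group, h3]
    simp
  have heq : finrank (ZMod 2) (fixV ρ (u * y)) = finrank (ZMod 2) (fixV ρ u) := by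
    rw [← hconj]
    have := fixV_conj (ρ := ρ) (y * y)⁻¹ u
    rw [inv_inv] at this
    rw [this, LinearEquiv.finrank_map_eq]
  have hdis : fixV ρ u ⊓ fixV ρ (u * y) = ⊥ := by
    refine (Submodule.eq_bot_iff _).2 fun x ⟨hx, hx'⟩ => ModuleAux.semireg H hy hr x ?_
    apply (ρ u).injective
    rw [← mul_apply', mem_fixV.1 hx', mem_fixV.1 hx]
  have := Submodule.finrank_sup_add_finrank_inf_eq (fixV ρ u) (fixV ρ (u * y))
  rw [hdis, finrank_bot] at this
  have := Submodule.finrank_le (fixV ρ u ⊔ fixV ρ (u * y))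
  have hge' : finrank (ZMod 2) V ≤ 2 * finrank (ZMod 2) (fixV ρ u) := hge
  omega

/-- A group transitive on the nonzero vectors of a space of dimension three acts on it as a group
of odd order. -/
theorem core (H : Hyp π ρ) {X : Submodule (ZMod 2) V} (hX : finrank (ZMod 2) X = 3)
    {Y : Subgroup G} (hY : ∀ g ∈ Y, ∀ x ∈ X, ρ g x ∈ X)
    (htr : ∀ x ∈ X, x ≠ 0 → ∀ x' ∈ X, x' ≠ 0 → ∃ g ∈ Y, ρ g x = x') :
    Odd (Nat.card (restr ρ hY).range) := by
  by_contra hne
  rw [Nat.not_odd_iff_even, even_iff_two_dvd] at hne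
  have : Finite (restr ρ hY).range := Finite.of_surjective _ (restr ρ hY).rangeRestrict_surjective
  obtain ⟨a, ha⟩ := exists_prime_orderOf_dvd_card' 2 hne
  have hlift : ∀ b : (restr ρ hY).range, orderOf b = 2 →
      ∃ b' : Y, restr ρ hY b' = b.1 ∧ ∃ k, b'.1 ^ 2 ^ k = 1 := by
    intro b hb
    obtain ⟨c, hc⟩ := b.2
    obtain ⟨m, ⟨j, hj⟩, k, hk⟩ := exists_two_part c
    have hb2 : b.1 ^ 2 = 1 := by
      have := pow_orderOf_eq_one b.1
      rwa [Subgroup.orderOf_coe, hb] at this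
    refine ⟨c ^ m, ?_, k, ?_⟩
    · rw [map_pow, hc, hj, pow_succ, pow_mul, hb2, one_pow, one_mul]
    · simpa using congrArg Subtype.val hk
  have hfix : ∀ b : (restr ρ hY).range, orderOf b = 2 →
      2 ≤ finrank (ZMod 2) (LinearMap.eqLocus b.1.toLinearMap LinearMap.id : Submodule (ZMod 2) X) := by
    intro b hb
    have := le_two_mul_fix b.1 (by
      have := pow_orderOf_eq_one b.1
      rwa [Subgroup.orderOf_coe, hb, pow_two] at this)
    omega
  obtain ⟨a', ha', ka, hka⟩ := hlift a ha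
  have hcl : ∀ g, IsPGroup 2 ↥(Subgroup.closure ({a, g * a * g⁻¹} : Set (restr ρ hY).range)) := by
    intro g
    set b := g * a * g⁻¹ with hbd
    have hb : orderOf b = 2 := by
      rw [hbd, ← MulAut.conj_apply, MulEquiv.orderOf_eq, ha]
    obtain ⟨b', hb', kb, hkb⟩ := hlift b hb
    set Ka : Submodule (ZMod 2) X := LinearMap.eqLocus a.1.toLinearMap LinearMap.id
    set Kb : Submodule (ZMod 2) X := LinearMap.eqLocus b.1.toLinearMap LinearMap.id
    have hne' : Ka ⊓ Kb ≠ ⊥ := by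
      intro h
      have h1 := Submodule.finrank_sup_add_finrank_inf_eq Ka Kb
      rw [h, finrank_bot] at h1
      have := Submodule.finrank_le (Ka ⊔ Kb)
      have : 2 ≤ finrank (ZMod 2) Ka := hfix a ha
      have : 2 ≤ finrank (ZMod 2) Kb := hfix b hb
      omega
    obtain ⟨v, ⟨hva, hvb⟩, hv⟩ := Submodule.exists_mem_ne_zero_of_ne_bot hne'
    have hv0 : v.1 ≠ 0 := fun h => hv (Subtype.ext h)
    obtain ⟨N, -, hN, hmem⟩ := ModuleAux.twoClosed_stab H hv0
    have hva' : a.1 v = v := hva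
    have hvb' : b.1 v = v := hvb
    rw [← ha'] at hva'
    rw [← hb'] at hvb'
    have hA : a' ∈ N.comap Y.subtype := hmem _ (congrArg Subtype.val hva') ka hka
    have hB : b' ∈ N.comap Y.subtype := hmem _ (congrArg Subtype.val hvb') kb hkb
    have hp : IsPGroup 2 (Subgroup.closure ({a', b'} : Set Y)) :=
      (hN.comap_of_injective Y.subtype Y.subtype_injective).to_le ((Subgroup.closure_le _).2 (by
        rintro x (rfl | rfl)
        exacts [hA, hB]))
    have hm := hp.map (restr ρ hY).rangeRestrict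
    rw [MonoidHom.map_closure, Set.image_pair] at hm
    rwa [show (restr ρ hY).rangeRestrict a' = a from Subtype.ext ha',
      show (restr ρ hY).rangeRestrict b' = b from Subtype.ext hb'] at hm
  obtain ⟨N, hNn, hN, haN⟩ := Cfsg.Agent.H28.baer_suzuki_element a hcl
  obtain ⟨v, hv, hv0⟩ := hN.exists_fixed_point_of_prime_dvd_card_of_fixed_point X
    (by rw [card_eq_pow, hX]; norm_num) (a := (0 : X)) (fun n => map_zero (n.1.1 : X ≃ₗ[ZMod 2] X))
  have hv' : v.1 ≠ 0 := fun h => hv0 (Subtype.ext h).symm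
  have ha1 : a.1 = 1 := by
    refine LinearEquiv.ext fun x => ?_
    show a.1 x = x
    rcases eq_or_ne x 0 with rfl | hx
    · exact map_zero _
    obtain ⟨g, hg, hgx⟩ := htr v.1 v.2 hv' x.1 x.2 (fun h => hx (Subtype.ext h))
    set q := (restr ρ hY).rangeRestrict ⟨g, hg⟩
    have hq : q.1 v = x := Subtype.ext hgx
    have hn : (q⁻¹ * a * q).1 v = v := hv ⟨_, hNn.conj_mem' a haN q⟩
    have he : q.1 * (q⁻¹ * a * q).1 = a.1 * q.1 := by simp [mul_assoc]
    have := LinearEquiv.congr_fun he v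
    rw [LinearEquiv.mul_apply, LinearEquiv.mul_apply, hn, hq] at this
    exact this.symm
  rw [← Subgroup.orderOf_coe, ha1, orderOf_one] at ha
  omega

theorem core_fix (H : Hyp π ρ) {X : Submodule (ZMod 2) V} (hX : finrank (ZMod 2) X = 3)
    {Y : Subgroup G} (hY : ∀ g ∈ Y, ∀ x ∈ X, ρ g x ∈ X)
    (htr : ∀ x ∈ X, x ≠ 0 → ∀ x' ∈ X, x' ≠ 0 → ∃ g ∈ Y, ρ g x = x') {g : G} (hg : g ∈ Y) {k : ℕ}
    (hk : g ^ 2 ^ k = 1) {x : V} (hx : x ∈ X) : ρ g x = x := by
  set q := (restr ρ hY).rangeRestrict ⟨g, hg⟩ with hqd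
  have h1 : orderOf q ∣ 2 ^ k := orderOf_dvd_of_pow_eq_one (by
    rw [hqd, ← map_pow, show (⟨g, hg⟩ : Y) ^ 2 ^ k = 1 from Subtype.ext hk, map_one])
  have hodd := (core H hX hY htr).of_dvd_nat (orderOf_dvd_natCard q)
  have h2 : orderOf q = 1 := Nat.Coprime.eq_one_of_dvd
    (Nat.Coprime.pow_right k (Nat.coprime_two_right.2 hodd)) h1
  rw [orderOf_eq_one_iff] at h2
  exact congrArg Subtype.val (LinearEquiv.congr_fun (congrArg Subtype.val h2) ⟨x, hx⟩)

theorem sylow_of (H : Hyp π ρ) {v : V} (hv : v ≠ 0) :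
    ∃ P : Sylow 2 G, (P : Subgroup G) ≤ stab ρ v ∧
      stab ρ v ≤ Subgroup.normalizer ((P : Subgroup G) : Set G) ∧
      ∀ Q : Sylow 2 G, (Q : Subgroup G) ≤ stab ρ v → Q = P := by
  obtain ⟨N, hNle, hN, hmem⟩ := ModuleAux.twoClosed_stab H hv
  have hsub : ∀ Q : Subgroup G, IsPGroup 2 Q → Q ≤ stab ρ v → Q ≤ N := fun Q hQ hle x hx => by
    obtain ⟨k, hk⟩ := hQ ⟨x, hx⟩
    exact hmem x (hle hx) k (congrArg Subtype.val hk)
  have hmax : ∀ Q : Sylow 2 G, (Q : Subgroup G) ≤ stab ρ v → (Q : Subgroup G) = N :=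
    fun Q hle => (Q.3 hN (hsub _ Q.2 hle)).symm
  obtain ⟨Q0⟩ : Nonempty (Sylow 2 (stab ρ v)) := inferInstance
  have hidx : ¬ 2 ∣ ((Q0 : Subgroup (stab ρ v)).map (stab ρ v).subtype).index := by
    rw [Subgroup.index_map_subtype]
    exact Nat.prime_two.not_dvd_mul Q0.not_dvd_index
      (Nat.two_dvd_ne_zero.2 (Nat.odd_iff.1 (ModuleAux.odd_index_stab H hv)))
  have hP0 : IsPGroup 2 ((Q0 : Subgroup (stab ρ v)).map (stab ρ v).subtype) := Q0.2.map _
  let P : Sylow 2 G := hP0.toSylow hidx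
  have hPle : (P : Subgroup G) ≤ stab ρ v := Subgroup.map_subtype_le _
  refine ⟨P, hPle, ?_, fun Q hQ => Sylow.ext ((hmax Q hQ).trans (hmax P hPle).symm)⟩
  intro g hg
  rw [Subgroup.mem_normalizer_iff, hmax P hPle]
  intro n
  constructor
  · intro hn
    obtain ⟨k, hk⟩ := hN ⟨n, hn⟩
    have hk' : n ^ 2 ^ k = 1 := congrArg Subtype.val hk
    exact hmem _ (mul_mem (mul_mem hg (hNle hn)) (inv_mem hg)) k
      (by rw [conj_pow, hk', mul_one, mul_inv_cancel])
  · intro hn
    obtain ⟨k, hk⟩ := hN ⟨_, hn⟩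
    have hk' : (g * n * g⁻¹) ^ 2 ^ k = 1 := congrArg Subtype.val hk
    rw [conj_pow, conj_eq_one_iff] at hk'
    refine hmem n ?_ k hk'
    have := mul_mem (mul_mem (inv_mem hg) (hNle hn)) hg
    simpa [mul_assoc] using this

theorem finrank_fixS_le (P Q : Sylow 2 G) :
    finrank (ZMod 2) (fixS ρ P) ≤ finrank (ZMod 2) (fixS ρ Q) := by
  obtain ⟨g, rfl⟩ := MulAction.exists_smul_eq G P Q
  rw [← LinearEquiv.finrank_map_eq (ρ g) (fixS ρ (P : Subgroup G))]
  refine Submodule.finrank_mono ?_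
  rintro _ ⟨x, hx, rfl⟩
  rw [mem_fixS]
  intro s hs
  rw [Sylow.coe_subgroup_smul, Subgroup.mem_pointwise_smul_iff_inv_smul_mem, ← map_inv,
    MulAut.smul_def, MulAut.conj_apply, inv_inv] at hs
  have := mem_fixS.1 hx hs
  rw [mem_stab, mul_apply', mul_apply'] at this
  show ρ s (ρ g x) = ρ g x
  apply (ρ g⁻¹).injective
  rw [this, inv_apply']

theorem count (H : Hyp π ρ) (hV : Nat.card V = 64) (P : Sylow 2 G) :
    63 = Nat.card (Sylow 2 G) * (2 ^ finrank (ZMod 2) (fixS ρ (P : Subgroup G)) - 1) := by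
  classical
  have := Fintype.ofFinite (Sylow 2 G)
  choose f hf1 hf2 hf3 using fun v : {v : V // v ≠ 0} => sylow_of H v.2
  let e : {v : V // v ≠ 0} ≃
      Σ Q : Sylow 2 G, {v : V // v ≠ 0 ∧ v ∈ fixS ρ (Q : Subgroup G)} :=
    { toFun := fun v => ⟨f v, v.1, v.2, mem_fixS.2 (hf1 v)⟩
      invFun := fun s => ⟨s.2.1, s.2.2.1⟩
      left_inv := fun v => rfl
      right_inv := fun s => Sigma.subtype_ext (hf3 _ _ (mem_fixS.1 s.2.2.2)).symm rfl }
  have h := Nat.card_congr e
  rw [card_ne_zero_sub_one, hV, Nat.card_sigma] at h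
  rw [show (63 : ℕ) = 64 - 1 from rfl, h, Finset.sum_const_nat (m :=
    2 ^ finrank (ZMod 2) (fixS ρ (P : Subgroup G)) - 1), Finset.card_univ, Nat.card_eq_fintype_card]
  intro Q _
  rw [← le_antisymm (finrank_fixS_le Q P) (finrank_fixS_le P Q), ← card_eq_pow,
    ← card_ne_zero_sub_one]
  exact Nat.card_congr
    { toFun := fun x => ⟨⟨x.1, x.2.2⟩, fun h => x.2.1 (congrArg Subtype.val h)⟩
      invFun := fun x => ⟨x.1.1, fun h => x.2 (Subtype.ext h), x.1.2⟩
      left_inv := fun _ => rfl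
      right_inv := fun _ => rfl }

theorem exists_seven (H : Hyp π ρ) (hV : Nat.card V = 64) (hG : 2 ∣ Nat.card G) (h7π : 7 ∈ π)
    (h7G : 7 ∣ Nat.card G) :
    ∃ u g : G, orderOf u = 2 ∧ orderOf g = 7 ∧ u * g = g * u ∧ Semireg ρ g := by
  have : Fact (Nat.Prime 7) := ⟨by norm_num⟩
  have : Fact (Nat.Prime 3) := ⟨by norm_num⟩
  obtain ⟨u0, hu0⟩ := exists_prime_orderOf_dvd_card' 2 hG
  have := nontrivial_six hV
  obtain ⟨y, hy, hinv⟩ := ModuleAux.exists_inverted H hu0
  have hr := isConj_inv hinv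
  have hy3 := order_three H hV hy hr
  have h7C : 7 ∣ Nat.card (cent y) := by
    rw [← Subgroup.card_mul_index (cent y)] at h7G
    exact ((Nat.Prime.dvd_mul (by norm_num)).1 h7G).resolve_right
      fun h => H.real y hy hr 7 (by norm_num) h h7π
  have hCy : ∀ c ∈ cent y, Commute c y := fun c hc => Subgroup.mem_centralizer_singleton_iff.1 hc
  have hnorm : ∀ c ∈ cent y, u0 * c * u0⁻¹ ∈ cent y := fun c hc => by
    have h := (hCy c hc).map (MulAut.conj u0)
    rw [MulAut.conj_apply, MulAut.conj_apply, hinv] at h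
    exact Subgroup.mem_centralizer_singleton_iff.2 (Commute.inv_right_iff.1 h)
  obtain ⟨P0⟩ : Nonempty (Sylow 7 (cent y)) := inferInstance
  set P' : Subgroup G := (P0 : Subgroup (cent y)).map (cent y).subtype with hP'
  have hP'7 : IsPGroup 7 P' := P0.2.map _
  have hP'le : P' ≤ cent y := Subgroup.map_subtype_le _
  obtain ⟨Q, hQ⟩ := ((hP'7.map (MulAut.conj u0).toMonoidHom).comap_of_injective (cent y).subtype
    (cent y).subtype_injective).exists_le_sylow
  obtain ⟨c, hc⟩ := MulAction.exists_smul_eq (cent y) Q P0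
  have hg' : ∀ x ∈ P', c.1 * u0 * x * (c.1 * u0)⁻¹ ∈ P' := by
    intro x hx
    have hxQ : (⟨u0 * x * u0⁻¹, hnorm x (hP'le hx)⟩ : cent y) ∈ (Q : Subgroup (cent y)) :=
      hQ ⟨x, hx, rfl⟩
    have h := Subgroup.smul_mem_pointwise_smul _ (MulAut.conj c) _ hxQ
    rw [← Sylow.coe_subgroup_smul, hc] at h
    exact ⟨_, h, by simp [mul_assoc]⟩
  have hinv' : c.1 * u0 * y * (c.1 * u0)⁻¹ = y⁻¹ :=
    mul_inv_eq_iff_eq_mul.2
      (SemiconjBy.mul_left (hCy _ c.2).inv_right (mul_inv_eq_iff_eq_mul.1 hinv))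
  have hpow : ∀ n : ℕ, ∀ x ∈ P', (c.1 * u0) ^ n * x * ((c.1 * u0) ^ n)⁻¹ ∈ P' := by
    intro n
    induction n with
    | zero => simp
    | succ n ih =>
      intro x hx
      have := hg' _ (ih x hx)
      rw [pow_succ']
      simpa [mul_assoc] using this
  obtain ⟨m, hm, k, hk⟩ := exists_two_part (c.1 * u0)
  set g := (c.1 * u0) ^ m with hgd
  have hginv : g * y * g⁻¹ = y⁻¹ := semiconj_odd_pow hinv' hm
  have hg1 : g ≠ 1 := by
    intro h
    rw [h] at hginv
    have : y * y = 1 := by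
      have h' : y = y⁻¹ := by simpa using hginv
      nth_rewrite 2 [h']
      exact mul_inv_cancel y
    have := orderOf_dvd_of_pow_eq_one (by rw [pow_two]; exact this : y ^ 2 = 1)
    rw [hy3] at this
    omega
  have hdvd : 2 ∣ orderOf g := by
    obtain ⟨j, -, hj⟩ := (Nat.dvd_prime_pow Nat.prime_two).1 (orderOf_dvd_of_pow_eq_one hk)
    rcases j with - | j
    · exact absurd (orderOf_eq_one_iff.1 hj) hg1
    · rw [hj]; exact dvd_pow_self 2 j.succ_ne_zero
  set u := g ^ (orderOf g / 2) with hud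
  have hu : orderOf u = 2 := orderOf_pow_orderOf_div (orderOf_pos g).ne' hdvd
  have huP : ∀ x ∈ P', u * x * u⁻¹ ∈ P' := fun x hx => by
    rw [hud, hgd, ← pow_mul]
    exact hpow _ x hx
  have hu2 : u * u = 1 := by rw [← pow_two, ← hu, pow_orderOf_eq_one]
  have hne : P' ≠ ⊥ := fun h => P0.ne_bot_of_dvd_card h7C
    ((Subgroup.map_eq_bot_iff_of_injective _ (cent y).subtype_injective).1 h)
  obtain ⟨h, hh, hh7, hcen⟩ := exists_central_prime hP'7 hne
  set h' := u * h * u⁻¹ with hh'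
  have hcomm : Commute h' h := hcen h' (huP h hh)
  have hh'7 : h' ^ 7 = 1 := by rw [hh', conj_pow, ← hh7, pow_orderOf_eq_one, mul_one, mul_inv_cancel]
  have hne7 : h * h' ≠ 1 := by
    intro he
    have hi : u * h * u⁻¹ = h⁻¹ := eq_inv_of_mul_eq_one_right he
    have hop : OddPrimeOrder h := ⟨by rw [hh7]; norm_num, by rw [hh7]; norm_num⟩
    have := order_three H hV hop (isConj_inv hi)
    omega
  have hord : orderOf (h * h') = 7 := orderOf_eq_prime
    (by rw [hcomm.symm.mul_pow, hh'7, ← hh7, pow_orderOf_eq_one, one_mul]) hne7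
  have hug : u * (h * h') = h * h' * u := by
    apply mul_inv_eq_iff_eq_mul.1
    calc u * (h * h') * u⁻¹ = h' * (u * u * h * (u * u)⁻¹) := by rw [hh']; group
      _ = h' * h := by rw [hu2]; simp
      _ = h * h' := hcomm
  have hgy : h * h' * y = y * (h * h') :=
    ((hCy h (hP'le hh)).mul_left (hCy h' (hP'le (huP h hh)))).eq
  refine ⟨u, h * h', hu, hord, hug, ?_⟩
  intro v hv
  have h1 := pow_modEq_fixV ρ (r := 7) hord
  rw [finrank_six hV] at h1
  have h2 := card_modEq_fixV ρ (r := 3) hy3 (fixV ρ (h * h')) (fun w hw => map_fixV_mem hgy hw)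
  have hbot : fixV ρ (h * h') ⊓ fixV ρ y = ⊥ :=
    (Submodule.eq_bot_iff _).2 fun w hw => ModuleAux.semireg H hy hr w hw.2
  rw [hbot, card_eq_pow, card_eq_pow, finrank_bot] at h2
  have hle := Submodule.finrank_le (fixV ρ (h * h'))
  rw [finrank_six hV] at hle
  have hd : finrank (ZMod 2) (fixV ρ (h * h')) = 0 := by
    have h6 : finrank (ZMod 2) (fixV ρ (h * h')) ≠ 6 := fun h6 =>
      fix_le H hne7 (Submodule.eq_top_of_finrank_eq (h6.trans (finrank_six hV).symm))
    unfold Nat.ModEq at h1 h2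
    interval_cases finrank (ZMod 2) (fixV ρ (h * h')) <;> simp_all
  have : v ∈ fixV ρ (h * h') := hv
  rwa [Submodule.finrank_eq_zero.1 hd, Submodule.mem_bot] at this

/-- The setwise stabiliser of a subspace. -/
def setStab (ρ : G →* (V ≃ₗ[ZMod 2] V)) (X : Submodule (ZMod 2) V) : Subgroup G where
  carrier := {g | ∀ x, x ∈ X ↔ ρ g x ∈ X}
  one_mem' := fun x => by simp
  mul_mem' := fun {a b} ha hb x => by rw [mul_apply']; exact (hb x).trans (ha _)
  inv_mem' := fun {a} ha x => by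
    have := ha (ρ a⁻¹ x)
    rw [apply_inv_apply] at this
    exact this.symm

omit [Finite G] [Finite V] in
theorem mem_setStab_of_commute {u s : G} (h : u * s = s * u) : s ∈ setStab ρ (fixV ρ u) :=
  fun x => ⟨fun hx => map_fixV_mem h hx, fun hx => by
    have := map_fixV_mem (h := s⁻¹) (Commute.inv_right h).eq hx
    rwa [inv_apply'] at this⟩

theorem finrank_fixS (H : Hyp π ρ) (hV : Nat.card V = 64) (hG : 2 ∣ Nat.card G)
    (P : Sylow 2 G) : finrank (ZMod 2) (fixS ρ (P : Subgroup G)) = 3 := by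
  have := nontrivial_six hV
  obtain ⟨z, hz, hz2, hzc⟩ := exists_central_prime P.2 (P.ne_bot_of_dvd_card hG)
  have hle : finrank (ZMod 2) (fixS ρ (P : Subgroup G)) ≤ 3 := by
    rw [← finrank_fix_inv H hV hz2]
    exact Submodule.finrank_mono fun x hx => mem_fixV.2 (mem_fixS.1 hx hz)
  by_contra hne
  have hc := count H hV P
  have h7 : 7 ∣ Nat.card (Sylow 2 G) := by
    interval_cases finrank (ZMod 2) (fixS ρ (P : Subgroup G)) <;> omega
  obtain ⟨v, hv⟩ := exists_ne (0 : V)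
  obtain ⟨Pv, -, hPv, -⟩ := sylow_of H hv
  have h7i : 7 ∣ (stab ρ v).index := by
    rw [Pv.card_eq_index_normalizer] at h7
    exact h7.trans (Subgroup.index_dvd_of_le hPv)
  obtain ⟨u1, g7, hu1, hg7, hug, hsr⟩ := exists_seven H hV hG (H.orb v hv 7 (by norm_num) h7i)
    (h7i.trans (Subgroup.index_dvd_card _))
  have hz1 : IsPGroup 2 (Subgroup.zpowers u1) :=
    IsPGroup.of_card (n := 1) (by rw [Nat.card_zpowers, hu1, pow_one])
  obtain ⟨R, hR⟩ := hz1.exists_le_sylow
  obtain ⟨s, hs⟩ := MulAction.exists_smul_eq G R P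
  set u2 := s * u1 * s⁻¹ with hu2d
  have hu2P : u2 ∈ (P : Subgroup G) := by
    have := Subgroup.smul_mem_pointwise_smul _ (MulAut.conj s) _ (hR (Subgroup.mem_zpowers u1))
    rw [← Sylow.coe_subgroup_smul, hs] at this
    exact this
  have hu2 : orderOf u2 = 2 := by
    rw [hu2d, ← MulAut.conj_apply, MulEquiv.orderOf_eq, hu1]
  have hfx := finrank_fix_inv H hV hu2
  set g2 := s * g7 * s⁻¹ with hg2d
  have hg2 : orderOf g2 = 7 := by
    rw [hg2d, ← MulAut.conj_apply, MulEquiv.orderOf_eq, hg7]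
  have hug2 : u2 * g2 = g2 * u2 := by
    rw [hu2d, hg2d, show s * u1 * s⁻¹ * (s * g7 * s⁻¹) = s * (u1 * g7) * s⁻¹ by group, hug]
    group
  have hsr2 : Semireg ρ g2 := by
    intro x hx
    have hx' : x ∈ fixV ρ g2 := hx
    rw [hg2d, fixV_conj] at hx'
    obtain ⟨w, hw, rfl⟩ := hx'
    rw [hsr w hw, map_zero]
  have : Fact (Nat.Prime 7) := ⟨by norm_num⟩
  have hY0 := cent_preserves (ρ := ρ) u2
  have hgc : g2 ∈ cent u2 := Subgroup.mem_centralizer_singleton_iff.2 hug2.symm
  have ha : orderOf ((restr ρ hY0).rangeRestrict ⟨g2, hgc⟩) = 7 := by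
    refine orderOf_eq_prime ?_ ?_
    · rw [← map_pow, show (⟨g2, hgc⟩ : cent u2) ^ 7 = 1 from
        Subtype.ext (by simp [← hg2, pow_orderOf_eq_one]), map_one]
    · intro h1
      have : Nontrivial (fixV ρ u2) := Module.nontrivial_of_finrank_pos (R := ZMod 2) (by omega)
      obtain ⟨x, hx⟩ := exists_ne (0 : fixV ρ u2)
      exact hx (Subtype.ext (hsr2 x.1
        (congrArg Subtype.val (LinearEquiv.congr_fun (congrArg Subtype.val h1) x))))
  have htr := trans_of_seven hfx hY0 ha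
  have hzX : fixV ρ z = fixV ρ u2 := by
    refine (Submodule.eq_of_le_of_finrank_eq (fun x hx => ?_)
      (hfx.trans (finrank_fix_inv H hV hz2).symm)).symm
    exact mem_fixV.2 (core_fix H hfx hY0 htr
      (Subgroup.mem_centralizer_singleton_iff.2 (hzc u2 hu2P).symm) (k := 1)
      (by rw [pow_one, ← hz2, pow_orderOf_eq_one]) hx)
  have hY1 : ∀ g ∈ setStab ρ (fixV ρ u2), ∀ x ∈ fixV ρ u2, ρ g x ∈ fixV ρ u2 :=
    fun g hg x hx => (hg x).1 hx
  have htr1 : ∀ x ∈ fixV ρ u2, x ≠ 0 → ∀ x' ∈ fixV ρ u2, x' ≠ 0 →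
      ∃ g ∈ setStab ρ (fixV ρ u2), ρ g x = x' := by
    intro x hx hx0 x' hx' hx0'
    obtain ⟨g, hg, hgx⟩ := htr x hx hx0 x' hx' hx0'
    exact ⟨g, mem_setStab_of_commute (Subgroup.mem_centralizer_singleton_iff.1 hg).symm, hgx⟩
  have hge : fixV ρ u2 ≤ fixS ρ (P : Subgroup G) := by
    intro x hx
    rw [mem_fixS]
    intro t ht
    obtain ⟨k, hk⟩ := P.2 ⟨t, ht⟩
    refine core_fix H hfx hY1 htr1 ?_ (congrArg Subtype.val hk) hx
    rw [← hzX]
    exact mem_setStab_of_commute (hzc t ht).symm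
  have := Submodule.finrank_mono hge
  omega

theorem fix_eq (H : Hyp π ρ) (hV : Nat.card V = 64) (hG : 2 ∣ Nat.card G) {u z : G}
    (hu : orderOf u = 2) (hz : orderOf z = 2) (hc : Commute u z) : fixV ρ u = fixV ρ z := by
  have hu2 : u * u = 1 := by rw [← pow_two, ← hu, pow_orderOf_eq_one]
  have hz2 : z * z = 1 := by rw [← pow_two, ← hz, pow_orderOf_eq_one]
  have hK : IsPGroup 2 (Subgroup.closure ({u, z} : Set G)) := by
    rintro ⟨x, hx⟩
    refine ⟨1, Subtype.ext ?_⟩
    have hcomm : ∀ a ∈ Subgroup.closure ({u, z} : Set G),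
        ∀ b ∈ Subgroup.closure ({u, z} : Set G), a * b = b * a := by
      have := Subgroup.isMulCommutative_closure (k := ({u, z} : Set G)) (by
        rintro a (rfl | rfl) b (rfl | rfl) <;> first | rfl | exact hc.eq | exact hc.eq.symm)
      intro a ha b hb
      exact congrArg Subtype.val (mul_comm' (⟨a, ha⟩ : Subgroup.closure ({u, z} : Set G)) ⟨b, hb⟩)
    show x ^ 2 ^ 1 = 1
    rw [pow_one, pow_two]
    induction hx using Subgroup.closure_induction with
    | mem a ha => rcases ha with rfl | rfl <;> assumption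
    | one => simp
    | mul a b ha hb iha ihb =>
      rw [mul_assoc, ← mul_assoc b, ← hcomm a ha b hb, mul_assoc a b b, ihb, mul_one, iha]
    | inv a _ iha => rw [← mul_inv_rev, iha, inv_one]
  obtain ⟨P, hP⟩ := hK.exists_le_sylow
  have key : ∀ t ∈ (P : Subgroup G), orderOf t = 2 → fixS ρ (P : Subgroup G) = fixV ρ t :=
    fun t ht ht2 => Submodule.eq_of_le_of_finrank_eq
      (fun x hx => mem_fixV.2 (mem_fixS.1 hx ht))
      ((finrank_fixS H hV hG P).trans (finrank_fix_inv H hV ht2).symm)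
  rw [← key u (hP (Subgroup.subset_closure (by simp))) hu,
    key z (hP (Subgroup.subset_closure (by simp))) hz]

theorem solvable_cent (H : Hyp π ρ) (hV : Nat.card V = 64) {u : G} (hu : orderOf u = 2) :
    Group.IsSolvable (cent u) := by
  have hfx := finrank_fix_inv H hV hu
  set φ := restr ρ (cent_preserves (ρ := ρ) u) with hφ
  have : Nontrivial (fixV ρ u) := Module.nontrivial_of_finrank_pos (R := ZMod 2) (by omega)
  obtain ⟨x, hx⟩ := exists_ne (0 : fixV ρ u)
  have := isSolvable_stab H (v := x.1) (fun h => hx (Subtype.ext h))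
  let f : φ.ker →* stab ρ x.1 :=
    { toFun := fun c => ⟨c.1.1, congrArg Subtype.val (LinearEquiv.congr_fun c.2 x)⟩
      map_one' := rfl
      map_mul' := fun _ _ => rfl }
  have : Group.IsSolvable φ.ker := Group.isSolvable_of_isSolvable_injective (f := f) (fun a b h =>
    Subtype.ext (Subtype.ext (congrArg (Subtype.val : stab ρ x.1 → G) h)))
  have : Finite φ.range := Finite.of_surjective _ φ.rangeRestrict_surjective
  have : Group.IsSolvable φ.range := by
    by_cases h7 : 7 ∣ Nat.card φ.range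
    · have : Fact (Nat.Prime 7) := ⟨by norm_num⟩
      obtain ⟨a, ha⟩ := exists_prime_orderOf_dvd_card' 7 h7
      exact Cfsg.Agent.S0205.result (core H hfx _ (trans_of_seven hfx _ ha))
    · have hd : Nat.card φ.range ∣ 2 ^ 3 * 3 * 7 := by
        have hd := Subgroup.card_dvd_of_injective
          ((toGL (Module.finBasisOfFinrankEq (ZMod 2) (fixV ρ u) hfx)).comp φ.range.subtype)
          ((toGL_injective _).comp φ.range.subtype_injective)
        rw [Matrix.card_GL_field, Fin.prod_univ_three, ZMod.card] at hd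
        exact hd
      have hco : (Nat.card φ.range).Coprime 7 :=
        ((Nat.Prime.coprime_iff_not_dvd (by norm_num)).2 h7).symm
      obtain ⟨d1, d2, h1, h2, he⟩ := Nat.dvd_mul.1 (hco.dvd_of_dvd_mul_right hd)
      obtain ⟨a, -, rfl⟩ := (Nat.dvd_prime_pow Nat.prime_two).1 h1
      rcases (Nat.dvd_prime Nat.prime_three).1 h2 with rfl | rfl
      · exact Cfsg.Agent.S0144.result 2 3 a 0 Nat.prime_two Nat.prime_three (by rw [← he]; simp)
      · exact Cfsg.Agent.S0144.result 2 3 a 1 Nat.prime_two Nat.prime_three (by rw [← he]; simp)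
  exact Group.isSolvable_of_ker_le_range φ.ker.subtype φ.rangeRestrict (by simp)

end Six

open Cfsg.Agent.H45.Trans in
/-- The case of a module of order 64. -/
theorem six {G : Type u} [Group G] [Finite G] {V : Type v} [AddCommGroup V] [Module (ZMod 2) V]
    [Finite V] {π : Set ℕ} {ρ : G →* (V ≃ₗ[ZMod 2] V)} (H : Hyp π ρ) (hV : Nat.card V = 64) :
    Group.IsSolvable G := by
  have := Six.nontrivial_six hV
  rcases Nat.even_or_odd (Nat.card G) with hG | hG
  swap
  · exact Cfsg.Agent.S0205.result hG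
  rw [even_iff_two_dvd] at hG
  have E : EndHyp ρ :=
    { inj := H.inj
      irr := H.irr
      odd := fun v hv => ModuleAux.odd_index_stab H hv
      fix_eq := fun u z hu hz hc => Six.fix_eq H hV hG hu hz hc
      semireg := fun y hy => by
        obtain ⟨i, -, hi⟩ := hy.2
        exact ModuleAux.semireg H hy.1 (Six.isConj_inv hi)
      trans := fun y hy v hv g => by
        obtain ⟨i, -, hi⟩ := hy.2
        exact Six.exists_mem_cent H hy.1 (Six.isConj_inv hi) hv g }
  obtain ⟨u, hu⟩ := exists_prime_orderOf_dvd_card' 2 hG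
  have hOn : (Cfsg.pPrimeCore 2 G).Normal := Cfsg.Agent.H19.pPrimeCore_normal 2 G
  have hO : Odd (Nat.card (Cfsg.pPrimeCore 2 G)) :=
    Nat.coprime_two_right.1 (Cfsg.Agent.H19.pPrimeCore_coprime 2)
  have hdec := Six.exists_mul_cent (Cfsg.pPrimeCore 2 G) hO hu
    (fun g => Cfsg.Agent.H28.zStar (E.isolated hu) g)
  have := Six.solvable_cent H hV hu
  have : Group.IsSolvable (Cfsg.pPrimeCore 2 G) := Cfsg.Agent.S0205.result hO
  have : Group.IsSolvable (G ⧸ Cfsg.pPrimeCore 2 G) :=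
    Group.isSolvable_of_surjective
      (f := (QuotientGroup.mk' (Cfsg.pPrimeCore 2 G)).comp (cent u).subtype) (fun q => by
        obtain ⟨g, rfl⟩ := QuotientGroup.mk'_surjective (Cfsg.pPrimeCore 2 G) q
        obtain ⟨a, ha, c, hc, rfl⟩ := hdec g
        refine ⟨⟨c, hc⟩, ?_⟩
        rw [map_mul, show QuotientGroup.mk' (Cfsg.pPrimeCore 2 G) a = 1 from
          (QuotientGroup.eq_one_iff a).2 ha, one_mul]
        rfl)
  exact Group.isSolvable_of_ker_le_range (Cfsg.pPrimeCore 2 G).subtype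
    (QuotientGroup.mk' (Cfsg.pPrimeCore 2 G)) (by simp)

/-- Solubility under the module hypothesis. -/
theorem solvable_of_hyp {G : Type u} [Group G] [Finite G] {V : Type v} [AddCommGroup V]
    [Module (ZMod 2) V] [Finite V] {π : Set ℕ} {ρ : G →* (V ≃ₗ[ZMod 2] V)} (H : Hyp π ρ) :
    Group.IsSolvable G :=
  solvable_of_hyp_of_six H fun _ h => six H h

end Cfsg.Agent.H13.RealSizes
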