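import Cfsg.Agent.H13.RealSizes.ChiefBase
import Cfsg.Agent.H13.RealSizes.Common
import Cfsg.Agent.H13.RealSizes.Six

/-!
# Groups with an elementary abelian normal two-subgroup of elements of `π`-index
-/

set_option autoImplicit false

namespace Cfsg.Agent.H13.RealSizes

universe u

/-- A group with a normal elementary abelian two-subgroup all of whose elements have classes of
`π`-size, whose centraliser is solvable, and whose real elements have classes prime to `π`, is
solvable. -/
theorem solvable_of_two_normal {G : Type u} [Group G] [Finite G] {π : Set ℕ} (h2 : 2 ∉ π)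
    (W : Subgroup G) [hWn : W.Normal] (hcomm : ∀ a ∈ W, ∀ b ∈ W, a * b = b * a)
    (hexp : ∀ a ∈ W, a * a = 1) (hidx : ∀ d ∈ W, PiNum π (cent d).index)
    (hreal : ∀ y : G, IsConj y y⁻¹ → y * y ≠ 1 → PiFree π (cent y).index)
    (hsol : Group.IsSolvable (Subgroup.centralizer (W : Set G))) : Group.IsSolvable G := by
  obtain ⟨n, hn⟩ := exists_derived_le_centralizer h2 (fun K _ _ V _ _ _ ρ H => solvable_of_hyp H)
    (fun N _ q hq hr => exists_real_lift_prime N hq hr) W hcomm hexp hidx hreal W hWn le_rfl
  exact isSolvable_of_derived_le _ hsol hn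

end Cfsg.Agent.H13.RealSizes
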