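import Cfsg.Agent.H13.RealSizes.Chief

/-!
# Groups whose real class sizes split: the reduction to a linear group
-/

set_option autoImplicit false
set_option linter.style.haveILetI false

namespace Cfsg.Agent.H13.RealSizes

universe u

variable {G : Type u} [Group G]

/-- Every real class size is a `π`-number or prime to `π`. -/
def Pure (π : Set ℕ) (G : Type*) [Group G] : Prop :=
  ∀ x : G, IsConj x x⁻¹ → PiNum π (cent x).index ∨ PiFree π (cent x).index

theorem PiNum.of_dvd {π : Set ℕ} {a b : ℕ} (h : a ∣ b) (hb : PiNum π b) : PiNum π a :=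
  fun q hq hqa => hb q hq (hqa.trans h)

theorem PiFree.of_dvd {π : Set ℕ} {a b : ℕ} (h : a ∣ b) (hb : PiFree π b) : PiFree π a :=
  fun q hq hqa => hb q hq (hqa.trans h)

theorem eq_one_of_piNum_of_piFree {π : Set ℕ} {n : ℕ} (ha : PiNum π n) (hb : PiFree π n) :
    n = 1 :=
  Nat.eq_one_iff_not_exists_prime_dvd.2 fun q hq hqn => hb q hq hqn (ha q hq hqn)

theorem isConj_inv_of_mul_self {x : G} (h : x * x = 1) : IsConj x x⁻¹ := by
  rw [inv_eq_of_mul_eq_one_right h]

/-- The class of an element which is not its own inverse has size prime to `π`. -/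
theorem Pure.piFree [Finite G] {π : Set ℕ} (h2 : 2 ∉ π) (hp : Pure π G) {y : G}
    (hr : IsConj y y⁻¹) (hy : y * y ≠ 1) : PiFree π (cent y).index :=
  (hp y hr).resolve_left fun h =>
    (Nat.not_even_iff_odd.2 (odd_of_piNum h2 h)) (even_index_cent hr hy)

theorem index_cent_map_dvd {H : Type*} [Group H] (f : G →* H) (hf : Function.Surjective f)
    (x : G) : (cent (f x)).index ∣ (cent x).index := by
  refine (Subgroup.index_dvd_of_le ?_).trans (Subgroup.index_map_dvd (cent x) hf)
  rintro _ ⟨c, hc, rfl⟩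
  exact mem_cent.2 (by rw [← map_mul, ← map_mul, mem_cent.1 hc])

/-- A group factorising as an odd normal subgroup times a solvable subgroup is solvable. -/
theorem solvable_of_mul [Finite G] (O : Subgroup G) [O.Normal] (hO : Odd (Nat.card O))
    (K : Subgroup G) (hK : Group.IsSolvable K) (h : ∀ g : G, ∃ a ∈ O, ∃ c ∈ K, g = a * c) :
    Group.IsSolvable G := by
  haveI : Group.IsSolvable O := Cfsg.Agent.S0205.result hO
  haveI : Group.IsSolvable (G ⧸ O) :=
    solvable_of_surjective (f := (QuotientGroup.mk' O).comp K.subtype) (fun q => by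
      obtain ⟨g, rfl⟩ := QuotientGroup.mk'_surjective O q
      obtain ⟨a, ha, c, hc, rfl⟩ := h g
      refine ⟨⟨c, hc⟩, ?_⟩
      show (c : G ⧸ O) = ((a * c : G) : G ⧸ O)
      rw [QuotientGroup.mk_mul, (QuotientGroup.eq_one_iff a).2 ha, one_mul])
  exact solvable_of_ker_le_range O.subtype (QuotientGroup.mk' O) (by simp)

/-- The centraliser of an involution of `π`-index is two-closed and solvable. -/
theorem cent_twoClosed [Finite G] {π : Set ℕ} (h2 : 2 ∉ π) (hp : Pure π G) {t : G}
    (ht : t * t = 1) (hidx : PiNum π (cent t).index) (hne : (cent t).index ≠ 1) :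
    TwoClosed (cent t) ∧ Group.IsSolvable (cent t) := by
  refine twoClosed_subgroup _ fun y hy hyo g hg hinv => hne (eq_one_of_piNum_of_piFree hidx ?_)
  have hyt : y * t = t * y := mem_cent.1 hy
  have hgt : g * t * g⁻¹ = t := by rw [mem_cent.1 hg]; group
  have hc : Commute y t := hyt
  have hz2 : (y * t) * (y * t) = y * y := by rw [hc.symm.mul_mul_mul_comm, ht, mul_one]
  have hzr : IsConj (y * t) (y * t)⁻¹ := isConj_iff.2 ⟨g, by
    rw [show g * (y * t) * g⁻¹ = (g * y * g⁻¹) * (g * t * g⁻¹) by group, hinv, hgt, mul_inv_rev,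
      inv_eq_of_mul_eq_one_right ht]
    exact hc.inv_left.eq⟩
  refine PiFree.of_dvd (Subgroup.index_dvd_of_le ?_)
    (hp.piFree h2 hzr (by rw [hz2]; exact hyo.mul_self_ne))
  intro c hc'
  have hpow : (y * t) ^ orderOf y = t := by
    obtain ⟨j, hj⟩ := hyo.odd
    rw [hc.mul_pow, pow_orderOf_eq_one, one_mul, hj, pow_succ, pow_mul, pow_two, ht, one_pow,
      one_mul]
  have := (Commute.pow_right (show Commute c (y * t) from mem_cent.1 hc') (orderOf y))
  rw [hpow] at this
  exact mem_cent.2 this

/-- Involutions whose centralisers have `π`-index lie in the `2`-core once the odd core is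
trivial. -/
theorem mem_pCore_two [Finite G] {π : Set ℕ} (h2 : 2 ∉ π) (hp : Pure π G)
    (hO : Cfsg.pPrimeCore 2 G = ⊥) {t : G} (ht : orderOf t = 2)
    (hidx : PiNum π (cent t).index) : t ∈ Cfsg.pCore 2 G := by
  by_contra hnot
  obtain ⟨y, hy, hinv, hyL⟩ := exists_inverted_of_not_mem ht hnot
  have hfree := hp.piFree h2 (isConj_inv_of_inverted hinv) hy.mul_self_ne
  have hcop : (cent y).index.Coprime (cent t).index :=
    Nat.coprime_of_dvd fun q hq hqa hqb => hfree q hq hqa (hidx q hq hqb)
  set L := Subgroup.closure (conjugatesOf t) with hL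
  have hall : ∀ d ∈ conjugatesOf t, d * y * d⁻¹ = y⁻¹ := by
    intro d hd
    obtain ⟨g, rfl⟩ := isConj_iff.1 (show IsConj t d from hd)
    obtain ⟨c, hc, b, hb, rfl⟩ := exists_mul_of_coprime _ _ hcop g
    have hbt : b * t * b⁻¹ = t := by rw [mem_cent.1 hb]; group
    have hcy : c⁻¹ * y * c = y := by
      rw [mul_assoc, ← mem_cent.1 hc, ← mul_assoc, inv_mul_cancel, one_mul]
    calc c * b * t * (c * b)⁻¹ * y * (c * b * t * (c * b)⁻¹)⁻¹
        = c * (b * t * b⁻¹) * (c⁻¹ * y * c) * (b * t * b⁻¹)⁻¹ * c⁻¹ := by group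
      _ = c * (t * y * t⁻¹) * c⁻¹ := by rw [hbt, hcy]; group
      _ = y⁻¹ := by
        rw [hinv, show c * y⁻¹ * c⁻¹ = (c * y * c⁻¹)⁻¹ by group,
          show c * y * c⁻¹ = y by rw [mem_cent.1 hc]; group]
  have hnorm : ∀ g ∈ L, g * y * g⁻¹ ∈ Subgroup.zpowers y := by
    intro g hg
    induction hg using Subgroup.closure_induction_left with
    | one => simpa using Subgroup.mem_zpowers y
    | mul_left d hd g _ ih =>
      obtain ⟨i, hi⟩ := Subgroup.mem_zpowers_iff.1 ih
      refine Subgroup.mem_zpowers_iff.2 ⟨-i, ?_⟩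
      rw [show d * g * y * (d * g)⁻¹ = d * (g * y * g⁻¹) * d⁻¹ by group, ← hi, zpow_neg,
        ← inv_zpow, ← hall d hd, conj_zpow]
    | inv_mul_cancel d hd g _ ih =>
      obtain ⟨i, hi⟩ := Subgroup.mem_zpowers_iff.1 ih
      refine Subgroup.mem_zpowers_iff.2 ⟨-i, ?_⟩
      have hd' : d⁻¹ * y * d⁻¹⁻¹ = y⁻¹ := by
        have h := congrArg (fun z => d⁻¹ * z⁻¹ * d) (hall d hd)
        simpa [mul_assoc] using h.symm
      rw [show d⁻¹ * g * y * (d⁻¹ * g)⁻¹ = d⁻¹ * (g * y * g⁻¹) * d⁻¹⁻¹ by group, ← hi, zpow_neg,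
        ← inv_zpow, ← hd', conj_zpow]
  let Y : Subgroup L := (Subgroup.zpowers y).subgroupOf L
  have hY : Y.Normal := ⟨fun n hn g => by
    obtain ⟨i, hi⟩ := Subgroup.mem_zpowers_iff.1 (Subgroup.mem_subgroupOf.1 hn)
    obtain ⟨j, hj⟩ := Subgroup.mem_zpowers_iff.1 (hnorm g g.2)
    refine Subgroup.mem_subgroupOf.2 (Subgroup.mem_zpowers_iff.2 ⟨j * i, ?_⟩)
    show y ^ (j * i) = g * n * g⁻¹
    rw [← hi, zpow_mul, hj, conj_zpow]
    simp only [Subgroup.coe_inv]⟩
  have hYc : (Nat.card Y).Coprime 2 := by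
    rw [Nat.card_congr (Subgroup.subgroupOfEquivOfLe (Subgroup.zpowers_le.2 hyL)).toEquiv,
      Nat.card_zpowers]
    exact Nat.coprime_two_right.2 hy.odd
  haveI : L.Normal := ⟨fun n hn g => by
    have h : L.map (MulAut.conj g).toMonoidHom ≤ L := by
      rw [hL, MonoidHom.map_closure, Subgroup.closure_le]
      rintro _ ⟨d, hd, rfl⟩
      exact Subgroup.subset_closure
        (show _ ∈ conjugatesOf t from (show IsConj t d from hd).trans (isConj_iff.2 ⟨g, rfl⟩))
    exact h ⟨n, hn, rfl⟩⟩
  haveI := Cfsg.Agent.H19.pPrimeCore_characteristic 2 L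
  have hle : (Cfsg.pPrimeCore 2 L).map L.subtype ≤ Cfsg.pPrimeCore 2 G :=
    Cfsg.Agent.H19.le_pPrimeCore inferInstance (by
      rw [Subgroup.card_map_of_injective L.subtype_injective]
      exact Cfsg.Agent.H19.pPrimeCore_coprime 2)
  have hy1 : y ∈ Cfsg.pPrimeCore 2 G := hle ⟨⟨y, hyL⟩,
    Cfsg.Agent.H19.le_pPrimeCore hY hYc (Subgroup.mem_subgroupOf.2 (Subgroup.mem_zpowers y)), rfl⟩
  rw [hO, Subgroup.mem_bot] at hy1
  exact hy.ne_one hy1

/-- With trivial odd core the group is solvable. -/
theorem solvable_of_core_trivial [Finite G] {π : Set ℕ} (h2 : 2 ∉ π) (hp : Pure π G)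
    (hO : Cfsg.pPrimeCore 2 G = ⊥) {t : G} (ht : t * t = 1) (hidx : PiNum π (cent t).index)
    (hne : (cent t).index ≠ 1) : Group.IsSolvable G := by
  classical
  haveI : Fact (Nat.Prime 2) := ⟨Nat.prime_two⟩
  have ht1 : t ≠ 1 := by
    rintro rfl
    exact hne (Subgroup.index_eq_one.2 (eq_top_iff.2 fun g _ => mem_cent.2 (by simp)))
  have htQ := mem_pCore_two h2 hp hO (Cfsg.Agent.H28.orderOf_two_of_mul_self ht ht1) hidx
  set Q := Cfsg.pCore 2 G with hQ
  haveI hQn : Q.Normal := Cfsg.Agent.H19.pCore_normal 2 G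
  have hQt : Q ≤ cent t := by
    obtain ⟨k, hk⟩ := IsPGroup.iff_card.1 (Cfsg.Agent.H19.pCore_isPGroup (G := G) 2)
    have h1 : (cent t).relIndex Q ∣ (cent t).index := by
      obtain ⟨m, hm⟩ := Subgroup.relIndex_dvd_index_of_normal Q (cent t)
      have e1 := Subgroup.relIndex_mul_index (inf_le_right : cent t ⊓ Q ≤ Q)
      have e2 := Subgroup.relIndex_mul_index (inf_le_left : cent t ⊓ Q ≤ cent t)
      rw [Subgroup.inf_relIndex_right, hm] at e1
      rw [Subgroup.inf_relIndex_left] at e2
      refine Dvd.intro m (Nat.eq_of_mul_eq_mul_left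
        (Nat.pos_of_ne_zero (fun h => Subgroup.index_ne_zero_of_finite (H := Q.subgroupOf (cent t))
          h)) ?_)
      show Q.relIndex (cent t) * _ = Q.relIndex (cent t) * _
      rw [e2, ← e1]
      ring
    have h3 : (cent t).relIndex Q ∣ 2 ^ k := hk ▸ Subgroup.relIndex_dvd_card _ _
    have h4 : (cent t).relIndex Q = 1 :=
      Nat.eq_one_of_dvd_coprimes
        (Nat.Coprime.pow_right k (Nat.coprime_two_right.2 (odd_of_piNum h2 hidx))) h1 h3
    exact Subgroup.relIndex_eq_one.1 h4
  have hconjQ : ∀ d ∈ conjugatesOf t, d ∈ Q := by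
    intro d hd
    obtain ⟨g, rfl⟩ := isConj_iff.1 (show IsConj t d from hd)
    exact hQn.conj_mem t htQ g
  have hconj2 : ∀ d ∈ conjugatesOf t, d * d = 1 := by
    intro d hd
    obtain ⟨g, rfl⟩ := isConj_iff.1 (show IsConj t d from hd)
    rw [show g * t * g⁻¹ * (g * t * g⁻¹) = g * (t * t) * g⁻¹ by group, ht]; group
  have hconjQc : ∀ d ∈ conjugatesOf t, ∀ q ∈ Q, q * d = d * q := by
    intro d hd q hq
    obtain ⟨g, rfl⟩ := isConj_iff.1 (show IsConj t d from hd)
    have := mem_cent.1 (hQt (by simpa using hQn.conj_mem q hq g⁻¹ : g⁻¹ * q * g ∈ Q))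
    calc q * (g * t * g⁻¹) = g * ((g⁻¹ * q * g) * t) * g⁻¹ := by group
      _ = g * t * g⁻¹ * q := by rw [this]; group
  set W := Subgroup.closure (conjugatesOf t) with hW
  have hWQ : W ≤ Q := (Subgroup.closure_le Q).2 hconjQ
  have hWcent : ∀ a ∈ W, ∀ q ∈ Q, q * a = a * q := by
    intro a ha
    induction ha using Subgroup.closure_induction with
    | mem d hd => exact hconjQc d hd
    | one => simp
    | mul a b _ _ iha ihb => exact fun q hq => (Commute.mul_right (iha q hq) (ihb q hq)).eq
    | inv a _ iha => exact fun q hq => (Commute.inv_right (iha q hq)).eq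
  have hcomm : ∀ a ∈ W, ∀ b ∈ W, a * b = b * a := fun a ha b hb => hWcent b hb a (hWQ ha)
  have hexp : ∀ a ∈ W, a * a = 1 := by
    intro a ha
    induction ha using Subgroup.closure_induction with
    | mem d hd => exact hconj2 d hd
    | one => simp
    | mul a b ha' hb' iha ihb =>
      rw [(show Commute a b from hcomm a ha' b hb').symm.mul_mul_mul_comm, iha, ihb, one_mul]
    | inv a _ iha => rw [← mul_inv_rev, iha, inv_one]
  haveI : W.Normal := ⟨fun n hn g => by
    have h : W.map (MulAut.conj g).toMonoidHom ≤ W := by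
      rw [hW, MonoidHom.map_closure, Subgroup.closure_le]
      rintro _ ⟨d, hd, rfl⟩
      exact Subgroup.subset_closure
        (show _ ∈ conjugatesOf t from (show IsConj t d from hd).trans (isConj_iff.2 ⟨g, rfl⟩))
    exact h ⟨n, hn, rfl⟩⟩
  have htW : t ∈ W := Subgroup.subset_closure (show t ∈ conjugatesOf t from IsConj.refl t)
  have hidxW : ∀ a ∈ W, PiNum π (cent a).index := by
    intro a ha
    rcases hp a (isConj_inv_of_mul_self (hexp a ha)) with h | hfree
    · exact h
    have hcop : (cent a).index.Coprime (cent t).index :=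
      Nat.coprime_of_dvd fun q hq hqa hqb => hfree q hq hqa (hidx q hq hqb)
    have hprod : ∀ a' ∈ conjugatesOf a, ∀ t' ∈ conjugatesOf t,
        a' * t' ∈ conjugatesOf (a * t) := by
      intro a' ha' t' ht'
      obtain ⟨x, rfl⟩ := isConj_iff.1 (show IsConj a a' from ha')
      obtain ⟨z, rfl⟩ := isConj_iff.1 (show IsConj t t' from ht')
      obtain ⟨c, hc, b, hb, hcb⟩ := exists_mul_of_coprime _ _ hcop (x⁻¹ * z)
      refine (show IsConj (a * t) _ from isConj_iff.2 ⟨x * c, ?_⟩)
      have hb' : b * t * b⁻¹ = t := by rw [mem_cent.1 hb]; group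
      have hz : z * t * z⁻¹ = x * c * t * c⁻¹ * x⁻¹ := by
        rw [show z = x * (x⁻¹ * z) by group, hcb]
        calc x * (c * b) * t * (x * (c * b))⁻¹ = x * c * (b * t * b⁻¹) * c⁻¹ * x⁻¹ := by group
          _ = x * c * t * c⁻¹ * x⁻¹ := by rw [hb']
      calc x * c * (a * t) * (x * c)⁻¹ = x * (c * a) * t * c⁻¹ * x⁻¹ := by group
        _ = x * (a * c) * t * c⁻¹ * x⁻¹ := by rw [mem_cent.1 hc]
        _ = x * a * x⁻¹ * (z * t * z⁻¹) := by rw [hz]; group
    have hCreal : IsConj (a * t) (a * t)⁻¹ :=
      isConj_inv_of_mul_self (hexp _ (W.mul_mem ha htW))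
    have hCdvd : (cent (a * t)).index ∣ (cent a).index * (cent t).index := by
      refine (Subgroup.index_dvd_of_le (H := cent a ⊓ cent t) (fun c hc => mem_cent.2 ?_)).trans ?_
      · exact (Commute.mul_right (show Commute c a from mem_cent.1 hc.1)
          (show Commute c t from mem_cent.1 hc.2)).eq
      · rw [index_inf_of_coprime _ _ hcop]
    rcases hp _ hCreal with hCn | hCf
    · -- the products with a fixed conjugate of `a` fill the class
      have hle : (cent (a * t)).index ∣ (cent t).index :=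
        (Nat.coprime_of_dvd fun q hq hqa hqb => hfree q hq hqb (hCn q hq hqa)
          ).dvd_of_dvd_mul_left hCdvd
      have hclass : ∀ a' ∈ conjugatesOf a, a' = a := by
        intro a' ha'
        have ha'2 : a' * a' = 1 := by
          obtain ⟨x, rfl⟩ := isConj_iff.1 (show IsConj a a' from ha')
          rw [show x * a * x⁻¹ * (x * a * x⁻¹) = x * (a * a) * x⁻¹ by group, hexp a ha]; group
        let m : conjugatesOf t → conjugatesOf (a * t) :=
          fun d => ⟨a * d, hprod a (IsConj.refl a) d d.2⟩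
        have hm : Function.Injective m := fun d e h =>
          Subtype.ext (mul_left_cancel (congrArg Subtype.val h))
        have hbij : Function.Bijective m := hm.bijective_of_nat_card_le (by
          rw [card_conjugatesOf, card_conjugatesOf]
          exact Nat.le_of_dvd (Nat.pos_of_ne_zero Subgroup.index_ne_zero_of_finite) hle)
        have haW : a' ∈ W := by
          obtain ⟨x, rfl⟩ := isConj_iff.1 (show IsConj a a' from ha')
          exact (inferInstance : W.Normal).conj_mem a ha x
        have hstab : ∀ d ∈ conjugatesOf t, a * a' * d ∈ conjugatesOf t := by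
          intro d hd
          obtain ⟨⟨e, he⟩, hme⟩ := hbij.2 ⟨a' * d, hprod a' ha' d hd⟩
          have he' : a * e = a' * d := congrArg Subtype.val hme
          rw [mul_assoc, ← he', ← mul_assoc, hexp a ha, one_mul]
          exact he
        let σ : Equiv.Perm (conjugatesOf t) :=
          { toFun := fun d => ⟨a * a' * d, hstab d d.2⟩
            invFun := fun d => ⟨a * a' * d, hstab d d.2⟩
            left_inv := fun d => Subtype.ext (by
              show a * a' * (a * a' * d) = d
              rw [← mul_assoc, hexp _ (W.mul_mem ha haW), one_mul])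
            right_inv := fun d => Subtype.ext (by
              show a * a' * (a * a' * d) = d
              rw [← mul_assoc, hexp _ (W.mul_mem ha haW), one_mul]) }
        have hσ : σ ^ 2 ^ 1 = 1 := Equiv.ext fun d => Subtype.ext (by
          show a * a' * (a * a' * (d : G)) = d
          rw [← mul_assoc, hexp _ (W.mul_mem ha haW), one_mul])
        obtain ⟨d, hd⟩ := exists_fixed_of_odd
          ((card_conjugatesOf t).symm ▸ odd_of_piNum h2 hidx) σ hσ
        have hd' : a * a' * (d : G) = d := congrArg Subtype.val hd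
        calc a' = a * (a * a') := by rw [← mul_assoc, hexp a ha, one_mul]
          _ = a := by rw [mul_eq_right.1 hd', mul_one]
      intro q hq hqd
      rw [← card_conjugatesOf] at hqd
      haveI : Subsingleton (conjugatesOf a) :=
        ⟨fun x z => Subtype.ext ((hclass x x.2).trans (hclass z z.2).symm)⟩
      haveI : Nonempty (conjugatesOf a) := ⟨⟨a, IsConj.refl a⟩⟩
      rw [Nat.card_unique] at hqd
      exact absurd (Nat.dvd_one.1 hqd) hq.ne_one
    · -- the products with a fixed conjugate of `t` fill the class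
      have hle : (cent (a * t)).index ∣ (cent a).index :=
        (Nat.coprime_of_dvd fun q hq hqa hqb => hCf q hq hqa (hidx q hq hqb)
          ).dvd_of_dvd_mul_right hCdvd
      let m : conjugatesOf a → conjugatesOf (a * t) :=
        fun d => ⟨d * t, hprod d d.2 t (IsConj.refl t)⟩
      have hm : Function.Injective m := fun d e h =>
        Subtype.ext (mul_right_cancel (congrArg Subtype.val h))
      have hbij : Function.Bijective m := hm.bijective_of_nat_card_le (by
        rw [card_conjugatesOf, card_conjugatesOf]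
        exact Nat.le_of_dvd (Nat.pos_of_ne_zero Subgroup.index_ne_zero_of_finite) hle)
      have hgen : ∀ d ∈ conjugatesOf t, ∀ b ∈ conjugatesOf a, b * d * t ∈ conjugatesOf a := by
        intro d hd b hb
        obtain ⟨⟨e, he⟩, hme⟩ := hbij.2 ⟨b * d, hprod b hb d hd⟩
        have he' : e * t = b * d := congrArg Subtype.val hme
        rw [← he', mul_assoc, ht, mul_one]
        exact he
      have hP : ∀ w ∈ W, (∀ b ∈ conjugatesOf a, b * w ∈ conjugatesOf a) ∨
          (∀ b ∈ conjugatesOf a, b * w * t ∈ conjugatesOf a) := by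
        intro w hw
        induction hw using Subgroup.closure_induction with
        | mem d hd => exact Or.inr (hgen d hd)
        | one => exact Or.inl (by simp)
        | mul u v hu hv ihu ihv =>
          have htv : t * v = v * t := hcomm t htW v hv
          rcases ihu with hu' | hu' <;> rcases ihv with hv' | hv'
          · exact Or.inl fun b hb => by simpa [mul_assoc] using hv' _ (hu' b hb)
          · exact Or.inr fun b hb => by simpa [mul_assoc] using hv' _ (hu' b hb)
          · refine Or.inr fun b hb => ?_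
            have := hv' _ (hu' b hb)
            rwa [mul_assoc (b * u) t v, htv, ← mul_assoc, mul_assoc b u v] at this
          · refine Or.inl fun b hb => ?_
            have := hv' _ (hu' b hb)
            rwa [mul_assoc (b * u) t v, htv, ← mul_assoc, mul_assoc _ t t, ht, mul_one,
              mul_assoc b u v] at this
        | inv u hu ihu =>
          rwa [inv_eq_of_mul_eq_one_right (hexp u hu)]
      rcases hP a ha with h | h
      · have h1 := h a (IsConj.refl a)
        rw [hexp a ha] at h1
        obtain rfl : a = 1 := isConj_one_left.1 (show IsConj a 1 from h1)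
        exact fun q hq hqd => absurd (Nat.dvd_one.1 (by
          rwa [show cent (1 : G) = ⊤ from eq_top_iff.2 fun g _ => mem_cent.2 (by simp),
            Subgroup.index_top] at hqd)) hq.ne_one
      · have h0 : t ∈ conjugatesOf a := by simpa [hexp a ha] using h a (IsConj.refl a)
        have h1 : IsConj a t := h0
        have e : conjugatesOf a = conjugatesOf t := Set.ext fun x =>
          ⟨fun hx => (h1.symm.trans hx : IsConj t x), fun hx => (h1.trans hx : IsConj a x)⟩
        rwa [← card_conjugatesOf, e, card_conjugatesOf]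
  refine solvable_of_two_normal h2 W hcomm hexp hidxW (fun y hr hy => hp.piFree h2 hr hy) ?_
  haveI := (cent_twoClosed h2 hp ht hidx hne).2
  have hle : Subgroup.centralizer (W : Set G) ≤ cent t := fun c hc => mem_cent.2
    (Subgroup.mem_centralizer_iff.1 hc t htW).symm
  exact solvable_of_solvable_injective (f := Subgroup.inclusion hle)
    (Subgroup.inclusion_injective hle)

/-- A group with pure real class sizes and an involution of nontrivial `π`-index is solvable. -/
theorem solvable_of_pure [Finite G] {π : Set ℕ} (h2 : 2 ∉ π) (hp : Pure π G) {t : G}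
    (ht : t * t = 1) (hidx : PiNum π (cent t).index) (hne : (cent t).index ≠ 1) :
    Group.IsSolvable G := by
  haveI hOn := Cfsg.Agent.H19.pPrimeCore_normal 2 G
  set O := Cfsg.pPrimeCore 2 G with hO
  have hOodd : Odd (Nat.card O) :=
    Nat.coprime_two_right.1 (Cfsg.Agent.H19.pPrimeCore_coprime 2)
  have ht1 : t ≠ 1 := by
    rintro rfl
    exact hne (Subgroup.index_eq_one.2 (eq_top_iff.2 fun g _ => mem_cent.2 (by simp)))
  have hidx' : PiNum π (cent (t : G ⧸ O)).index :=
    PiNum.of_dvd (index_cent_map_dvd (QuotientGroup.mk' O) (QuotientGroup.mk'_surjective O) t) hidx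
  by_cases hne' : (cent (t : G ⧸ O)).index = 1
  · have hcomm : ∀ g : G, t * g * t⁻¹ * g⁻¹ ∈ O := by
      intro g
      have h : (g : G ⧸ O) * t = t * g :=
        mem_cent.1 (by rw [Subgroup.index_eq_one.1 hne']; exact Subgroup.mem_top _)
      rw [← QuotientGroup.eq_one_iff]
      simp only [QuotientGroup.mk_mul, QuotientGroup.mk_inv]
      rw [← h]
      group
    exact solvable_of_mul O hOodd (cent t) (cent_twoClosed h2 hp ht hidx hne).2
      (exists_mul_cent_of_comm_mem O hOodd (Cfsg.Agent.H28.orderOf_two_of_mul_self ht ht1) hcomm)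
  · have hp' : Pure π (G ⧸ O) := by
      intro q hq
      obtain ⟨y, rfl, hy⟩ := exists_real_lift_odd O hOodd hq
      have hd := index_cent_map_dvd (QuotientGroup.mk' O) (QuotientGroup.mk'_surjective O) y
      exact (hp y hy).imp (PiNum.of_dvd hd) (PiFree.of_dvd hd)
    haveI : Group.IsSolvable O := Cfsg.Agent.S0205.result hOodd
    haveI : Group.IsSolvable (G ⧸ O) := solvable_of_core_trivial h2 hp'
      (Cfsg.Agent.H19.pPrimeCore_quotient_pPrimeCore 2)
      (t := (t : G ⧸ O)) (by rw [← QuotientGroup.mk_mul, ht, QuotientGroup.mk_one]) hidx' hne'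
    exact solvable_of_ker_le_range O.subtype (QuotientGroup.mk' O) (by simp)

/-- Real class sizes separated by two sets of primes: solvable, `2` outside the first set. -/
theorem solvable_of_split [Finite G] (π π' : Set ℕ) (h2 : 2 ∉ π) (hne : π.Nonempty)
    (hcover : ∀ q : ℕ, q.Prime →
      (∃ x : G, IsConj x x⁻¹ ∧ q ∣ (cent x).index) → q ∈ π ∨ q ∈ π')
    (hvert : ∀ q ∈ π, q.Prime ∧ ∃ x : G, IsConj x x⁻¹ ∧ q ∣ (cent x).index)
    (hnoedge : ∀ a ∈ π, ∀ b ∈ π', ∀ x : G, IsConj x x⁻¹ →
      ¬ (a ∣ (cent x).index ∧ b ∣ (cent x).index)) : Group.IsSolvable G := by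
  have hp : Pure π G := by
    intro x hx
    by_cases h : ∃ a ∈ π, a ∣ (cent x).index
    · obtain ⟨a, ha, had⟩ := h
      exact Or.inl fun q hq hqd => (hcover q hq ⟨x, hx, hqd⟩).resolve_right fun hq' =>
        hnoedge a ha q hq' x hx ⟨had, hqd⟩
    · exact Or.inr fun q _ hqd hqπ => h ⟨q, hqπ, hqd⟩
  obtain ⟨q, hq⟩ := hne
  obtain ⟨hqp, x, hx, hqx⟩ := hvert q hq
  have hx2 : x * x = 1 := by
    by_contra h
    exact hp.piFree h2 hx h q hqp hqx hq
  refine solvable_of_pure h2 hp hx2 ((hp x hx).resolve_right fun h => h q hqp hqx hq) ?_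
  intro h1
  exact hqp.ne_one (Nat.dvd_one.1 (h1 ▸ hqx))

end Cfsg.Agent.H13.RealSizes
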