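import Cfsg.Agent.H13.RealSizes.HallSetup
import Cfsg.Agent.H13.RealSizes.Generic
import Cfsg.Agent.S0205
import Cfsg.Agent.S3861

/-!
# Solubility under the module hypothesis
-/

set_option autoImplicit false

namespace Cfsg.Agent.H13.RealSizes

universe u

open Cfsg.Agent.H45.Trans

namespace ModuleAux

variable {G : Type u} [Group G] [Finite G] {V : Type*} [AddCommGroup V] [Module (ZMod 2) V]
  [Finite V] {π : Set ℕ} {ρ : G →* (V ≃ₗ[ZMod 2] V)}

theorem odd_index_stab (H : Hyp π ρ) {v : V} (hv : v ≠ 0) : Odd (stab ρ v).index :=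
  Nat.not_even_iff_odd.1 fun h => H.two (H.orb v hv 2 Nat.prime_two h.two_dvd)

theorem semireg (H : Hyp π ρ) {y : G} (hy : OddPrimeOrder y) (hr : IsConj y y⁻¹) :
    Semireg ρ y := by
  intro v hv
  by_contra hv0
  have hcop : (cent y).index.Coprime (stab ρ v).index :=
    Nat.coprime_of_dvd fun q hq h1 h2 => H.real y hy hr q hq h1 (H.orb v hv0 q hq h2)
  let W : Submodule (ZMod 2) V :=
    { carrier := {x | ∀ g : G, ρ y (ρ g x) = ρ g x}
      add_mem' := fun {a b} ha hb g => by rw [map_add, map_add, ha g, hb g]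
      zero_mem' := fun g => by rw [map_zero, map_zero]
      smul_mem' := fun c x hx g => by rw [map_smul, map_smul, hx g] }
  have hvW : v ∈ W := fun g => by
    obtain ⟨a, ha, b, hb, rfl⟩ := (S0007.result _ _ hcop).2 g
    rw [map_mul, LinearEquiv.mul_apply, mem_stab.1 hb, ← LinearEquiv.mul_apply, ← map_mul,
      ← Subgroup.mem_centralizer_singleton_iff.1 ha, map_mul, LinearEquiv.mul_apply, hv]
  have hW : ∀ g : G, ∀ w ∈ W, ρ g w ∈ W := fun g w hw a => by
    rw [← LinearEquiv.mul_apply (ρ a) (ρ g), ← map_mul]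
    exact hw (a * g)
  rcases H.irr W hW with h | h
  · exact hv0 ((Submodule.mem_bot _).1 (h ▸ hvW))
  · have h1 : ρ y = 1 := LinearEquiv.ext fun x => by
      have h2 : ρ y (ρ 1 x) = ρ 1 x := (h ▸ Submodule.mem_top : x ∈ W) 1
      rw [map_one] at h2
      exact h2
    rw [← map_one ρ] at h1
    have := hy.1
    rw [H.inj h1, orderOf_one] at this
    exact Nat.not_prime_one this

theorem twoClosed_stab (H : Hyp π ρ) {v : V} (hv : v ≠ 0) : TwoClosed (stab ρ v) := by
  obtain ⟨P⟩ := (inferInstance : Nonempty (Sylow 2 (stab ρ v)))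
  have hPn : (P : Subgroup (stab ρ v)).Normal := (S3861.result P).1 fun x hx hodd hr => by
    obtain ⟨q, hq, hqd⟩ := Nat.exists_prime_and_dvd (mt orderOf_eq_one_iff.1 hx)
    obtain ⟨m, hm⟩ := hqd
    have hm0 : m ≠ 0 := by
      rintro rfl
      rw [mul_zero] at hm
      exact (orderOf_pos x).ne' hm
    have ho : orderOf ((x : G) ^ m) = q := by
      rw [orderOf_pow' _ hm0, Subgroup.orderOf_coe, hm, Nat.gcd_eq_right (dvd_mul_left m q),
        Nat.mul_div_cancel q (Nat.pos_of_ne_zero hm0)]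
    obtain ⟨c, hc⟩ := isConj_iff.1 hr
    have hc' : (c : G) * x * (c : G)⁻¹ = (x : G)⁻¹ := congrArg Subtype.val hc
    have hq2 : q ≠ 2 := fun h => by
      have hqd : q ∣ orderOf x := ⟨m, hm⟩
      rw [h] at hqd
      exact hodd.not_two_dvd_nat hqd
    refine hv (semireg H (y := (x : G) ^ m) ⟨by rwa [ho], by rwa [ho]⟩
      (isConj_iff.2 ⟨c, by rw [← conj_pow, hc', inv_pow]⟩) v ?_)
    exact mem_stab.1 (pow_mem x.2 m)
  refine ⟨(P : Subgroup (stab ρ v)).map (stab ρ v).subtype, Subgroup.map_subtype_le _,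
    P.isPGroup'.map _, fun x hx k hk => ?_⟩
  obtain ⟨j, -, hj⟩ := (Nat.dvd_prime_pow Nat.prime_two).1
    (orderOf_dvd_of_pow_eq_one (Subtype.ext hk : (⟨x, hx⟩ : stab ρ v) ^ 2 ^ k = 1))
  obtain ⟨U, hU⟩ := (IsPGroup.of_card (n := j) (by rw [Nat.card_zpowers, hj]) :
    IsPGroup 2 (Subgroup.zpowers (⟨x, hx⟩ : stab ρ v))).exists_le_sylow
  letI := Sylow.unique_of_normal P hPn
  rw [Subsingleton.elim U P] at hU
  exact ⟨⟨x, hx⟩, hU (Subgroup.mem_zpowers _), rfl⟩

theorem exists_inverted (H : Hyp π ρ) [Nontrivial V] {u : G} (hu : orderOf u = 2) :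
    ∃ y : G, OddPrimeOrder y ∧ u * y * u⁻¹ = y⁻¹ := by
  by_contra hno
  push Not at hno
  have huu : u * u = 1 := by rw [← pow_two, ← hu, pow_orderOf_eq_one]
  have hu1 : u ≠ 1 := fun h => by rw [h, orderOf_one] at hu; omega
  obtain ⟨N, hN, hNp, huN⟩ := H28.baer_suzuki_element (p := 2) u fun g => by
    set u' := g * u * g⁻¹
    have hu'2 : u' * u' = 1 := by
      calc u' * u' = g * (u * u) * g⁻¹ := by simp only [u']; group
        _ = 1 := by rw [huu]; group
    have hu'1 : u' ≠ 1 := by simpa [u'] using hu1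
    obtain ⟨e⟩ := H28.closure_pair_dihedral huu hu'2 hu1 hu'1
    have hpow : orderOf (u * u') = 2 ^ (orderOf (u * u')).primeFactorsList.length := by
      refine Nat.eq_prime_pow_of_unique_prime_dvd (orderOf_pos _).ne' fun {q} hq hqd => ?_
      by_contra h2
      obtain ⟨m, hm⟩ := hqd
      have hm0 : m ≠ 0 := by
        rintro rfl
        rw [mul_zero] at hm
        exact (orderOf_pos _).ne' hm
      have ho : orderOf ((u * u') ^ m) = q := by
        rw [orderOf_pow' _ hm0, hm, Nat.gcd_eq_right (dvd_mul_left m q),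
          Nat.mul_div_cancel q (Nat.pos_of_ne_zero hm0)]
      refine hno ((u * u') ^ m) ⟨by rwa [ho], by rwa [ho]⟩ ?_
      rw [← conj_pow, ← inv_pow]
      congr 1
      rw [mul_inv_rev, inv_eq_of_mul_eq_one_right hu'2, inv_eq_of_mul_eq_one_right huu,
        ← mul_assoc, huu, one_mul]
    refine IsPGroup.of_card (n := (orderOf (u * u')).primeFactorsList.length + 1) ?_
    rw [Nat.card_congr e.toEquiv, DihedralGroup.nat_card, pow_succ', ← hpow]
  let W : Submodule (ZMod 2) V :=
    { carrier := {x | ∀ s ∈ N, ρ s x = x}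
      add_mem' := fun {a b} ha hb s hs => by rw [map_add, ha s hs, hb s hs]
      zero_mem' := fun s _ => map_zero _
      smul_mem' := fun c x hx s hs => by rw [map_smul, hx s hs] }
  letI : MulAction N V := MulAction.compHom V (ρ.comp N.subtype)
  have hW0 : W ≠ ⊥ := by
    intro h
    have h0 : (0 : V) ∈ MulAction.fixedPoints N V := fun s => map_zero (ρ (s : G))
    obtain ⟨w, hw, hne⟩ := hNp.exists_fixed_point_of_prime_dvd_card_of_fixed_point V
      (by
        rw [card_V (p := 2) (V := V)]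
        exact dvd_pow_self 2 Module.finrank_pos.ne') h0
    have hwW : w ∈ W := fun s hs => hw ⟨s, hs⟩
    rw [h, Submodule.mem_bot] at hwW
    exact hne hwW.symm
  have hWinv : ∀ g : G, ∀ w ∈ W, ρ g w ∈ W := fun g w hw s hs => by
    rw [← LinearEquiv.mul_apply, ← map_mul, show s * g = g * (g⁻¹ * s * g) by group, map_mul,
      LinearEquiv.mul_apply, hw _ (by simpa using hN.conj_mem s hs g⁻¹)]
  rcases H.irr W hWinv with h | h
  · exact hW0 h
  · have h1 : ρ u = 1 := LinearEquiv.ext fun x =>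
      (h ▸ Submodule.mem_top : x ∈ W) u huN
    rw [← map_one ρ] at h1
    exact hu1 (H.inj h1)

end ModuleAux

/-- Solubility under the module hypothesis, given the case of 64 vectors. -/
theorem solvable_of_hyp_of_six {G : Type u} [Group G] [Finite G] {V : Type*} [AddCommGroup V]
    [Module (ZMod 2) V] [Finite V] {π : Set ℕ} {ρ : G →* (V ≃ₗ[ZMod 2] V)} (H : Hyp π ρ)
    (six' : Nontrivial V → Nat.card V = 64 → Group.IsSolvable G)
    :
    Group.IsSolvable G := by
  rcases subsingleton_or_nontrivial V with hV | hV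
  · haveI : Subsingleton G :=
      ⟨fun a b => H.inj (LinearEquiv.ext fun x => Subsingleton.elim _ _)⟩
    exact Group.isSolvable_of_comm fun a b => Subsingleton.elim _ _
  rcases Nat.even_or_odd (Nat.card G) with h | h
  · by_cases h64 : Nat.card V = 64
    · exact six' hV h64
    · obtain ⟨A, f, D⟩ := exists_hallData_of H h h64 (fun _ hv => ModuleAux.odd_index_stab H hv)
        (fun _ hv => ModuleAux.twoClosed_stab H hv) (fun hu => ModuleAux.exists_inverted H hu)
      exact HallData.solvable H D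
  · exact S0205.result h

end Cfsg.Agent.H13.RealSizes
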